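import Cfsg.Agent.Lib.LocalEven.ZJFusion.Critical

/-!
Failure of `N(Z(J(S)))` to control fusion produces a section `F(p)`.
-/

set_option autoImplicit false

namespace CfsgLib.LocalEven.ZJFusion

open Cfsg Subgroup
open CfsgLib.PStab
open CfsgLib.Fusion (conjSub conj_mem_conjSub conjSub_conjSub conjSub_one conjSub_mono card_conjSub
  conjSub_eq_iff_mem_normalizer)
open CfsgLib.Techniques.Functor (Full Agree LocalAt exists_conjSub_eq card_lt_of_lt lt_norm
  relIndex_sylow_not_dvd)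
open CfsgLib.Cores (pCoreIn)
open scoped commutatorElement

variable {G : Type*} [Group G] [Finite G] {p : ℕ} [hp : Fact p.Prime]

/-- A Sylow subgroup meets a normal subgroup in a Sylow subgroup. -/
theorem not_dvd_relIndex_inf {K C Q : Subgroup G} (hQp : IsPGroup p Q) (hQK : Q ≤ K)
    (hQi : ¬ p ∣ Q.relIndex K) (hCK : C ≤ K) (hCn : K ≤ normalizer (C : Set G)) :
    ¬ p ∣ (Q ⊓ C).relIndex C := by
  obtain ⟨T, hT⟩ := ((hQp.to_le (inf_le_left : Q ⊓ C ≤ Q)).of_equiv
    (subgroupOfEquivOfLe (inf_le_right : Q ⊓ C ≤ C)).symm).exists_le_sylow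
  set T' := (T : Subgroup C).map C.subtype with hT'
  obtain ⟨k, hk, hm⟩ := CfsgLib.Fusion.exists_conj_mem_of_le (T.2.map C.subtype) hQp
    ((map_subtype_le _).trans hCK) hQK hQi
  have hle : conjSub k T' ≤ Q ⊓ C := by
    rintro _ ⟨y, hy, rfl⟩
    exact ⟨hm y hy, (mem_normalizer_iff.1 (hCn hk) y).1 (map_subtype_le _ hy)⟩
  have hge : Q ⊓ C ≤ T' := fun y hy => mem_map.2 ⟨⟨y, hy.2⟩, hT hy, rfl⟩
  have e : Q ⊓ C = T' := eq_of_le_of_card_ge hge (by rw [← card_conjSub k T']; exact card_le_of_le hle)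
  rw [e]
  show ¬ p ∣ (T'.subgroupOf C).index
  rw [show T'.subgroupOf C = (T : Subgroup C) from comap_map_eq_self_of_injective C.subtype_injective _]
  exact T.not_dvd_index

/-- Compose fusion in a normal subgroup with fusion in the normaliser of its Sylow subgroup. -/
theorem fused_of_frattini {W K Q C : Subgroup G} (hQp : IsPGroup p Q) (hQK : Q ≤ K)
    (hQi : ¬ p ∣ Q.relIndex K) (hCK : C ≤ K) (hCn : K ≤ normalizer (C : Set G))
    (hC : ∀ B c, c ∈ C → B ≤ Q → conjSub c B ≤ Q → Fused W B c)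
    (hD : ∀ B d, d ∈ K ⊓ normalizer ((Q ⊓ C : Subgroup G) : Set G) → B ≤ Q → conjSub d B ≤ Q → Fused W B d) :
    ∀ A n, n ∈ K → A ≤ Q → conjSub n A ≤ Q → Fused W A n := by
  intro A n hn hA hnA
  set D := Q ⊓ C with hDdef
  have hDi := not_dvd_relIndex_inf hQp hQK hQi hCK hCn
  have hnC : conjSub n C = C := conjSub_eq_iff_mem_normalizer.2 (hCn hn)
  obtain ⟨c, hc, e⟩ := exists_conjSub_eq (H := C) (T := conjSub n D) (R := D)
    ((hQp.to_le inf_le_left).map _) (by rw [← hnC]; exact conjSub_mono n inf_le_right)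
    (by
      have h2 := CfsgLib.Fusion.not_dvd_relIndex_map (MulAut.conj n).toMonoidHom (inf_le_right : D ≤ C) hDi
      rwa [show C.map (MulAut.conj n).toMonoidHom = C from hnC] at h2)
    (hQp.to_le inf_le_left) inf_le_right hDi
  rw [conjSub_conjSub] at e
  set d0 := c * n with hd0
  have hd0K : d0 ∈ K := mul_mem (hCK hc) hn
  have hd0N : d0 ∈ normalizer (D : Set G) := conjSub_eq_iff_mem_normalizer.1 e
  have hQD : Q ≤ normalizer (D : Set G) := fun q hq => CfsgLib.Solvable.mem_normalizer_of_conj_mem fun x hx =>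
    ⟨Q.mul_mem (Q.mul_mem hq hx.1) (Q.inv_mem hq), (mem_normalizer_iff.1 (hCn (hQK hq)) x).1 hx.2⟩
  set M := (C ⊔ Q) ⊓ normalizer (D : Set G) with hM
  have hQM : Q ≤ M := le_inf le_sup_right hQD
  have hMK : M ≤ K := (inf_le_left : M ≤ C ⊔ Q).trans (sup_le hCK hQK)
  have hAM : conjSub d0 A ≤ M := by
    rintro _ ⟨x, hx, rfl⟩
    refine ⟨?_, ?_⟩
    · show d0 * x * d0⁻¹ ∈ C ⊔ Q
      have h1 : n * x * n⁻¹ ∈ C ⊔ Q := mem_sup_right (hnA (conj_mem_conjSub hx))
      have h2 : c ∈ C ⊔ Q := mem_sup_left hc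
      have := mul_mem (mul_mem h2 h1) (inv_mem h2)
      rw [hd0]
      convert this using 1
      group
    · exact (normalizer (D : Set G)).mul_mem ((normalizer (D : Set G)).mul_mem hd0N (hQD (hA hx)))
        ((normalizer (D : Set G)).inv_mem hd0N)
  obtain ⟨n', hn', hn'A⟩ := CfsgLib.Fusion.exists_conj_mem_of_le ((hQp.to_le hA).map _) hQp hAM hQM
    fun hd => hQi (hd.trans (relIndex_mul_relIndex Q M K hQM hMK ▸ Dvd.intro _ rfl))
  have hn'CQ : n' ∈ Q ⊔ C := by rw [sup_comm]; exact hn'.1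
  obtain ⟨c', hc', q, hq, e'⟩ := CfsgLib.Solvable.exists_mul_of_mem_sup (K := C) (A := Q)
    (hQK.trans hCn) (by rw [sup_comm]; exact hn'CQ)
  set c1 := q⁻¹ * c' * q with hc1
  have hc1C : c1 ∈ C := (mem_normalizer_iff''.1 (hCn (hQK hq)) c').1 hc'
  have hc1n : c1 = q⁻¹ * n' := by rw [hc1, e']; group
  have hc1N : c1 ∈ normalizer (D : Set G) := by
    rw [hc1n]; exact (normalizer (D : Set G)).mul_mem ((normalizer (D : Set G)).inv_mem (hQD hq)) hn'.2
  set d := c1 * d0 with hd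
  have hdA : conjSub d A ≤ Q := by
    rintro _ ⟨x, hx, rfl⟩
    show d * x * d⁻¹ ∈ Q
    have h1 := hn'A _ (conj_mem_conjSub (g := d0) hx)
    have h2 := Q.mul_mem (Q.mul_mem (Q.inv_mem hq) h1) hq
    rw [hd, hc1n]
    convert h2 using 1
    group
  have h1 : Fused W A d :=
    hD A d ⟨mul_mem (hCK hc1C) hd0K, mul_mem hc1N hd0N⟩ hA hdA
  have hn2 : n = c⁻¹ * c1⁻¹ * d := by rw [hd, hd0]; group
  rw [hn2]
  refine h1.trans (hC _ _ (mul_mem (inv_mem hc) (inv_mem hc1C)) hdA ?_)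
  rw [conjSub_conjSub, ← hn2]
  exact hnA

/-- The data for the induction. -/
structure Setting (p : ℕ) [Fact p.Prime] (S : Sylow p G) (W Z0 : Subgroup G) (w0 : G) : Prop where
  hW : W = zjGen 0 (S : Subgroup G)
  zn : Z0.Normal
  zW : Z0 ≤ W
  w0W : w0 ∈ W
  w0Z : ∀ s ∈ (S : Subgroup G), ⁅s, w0⁆ ∈ Z0
  w0p : w0 ^ p ∈ Z0
  hC1 : ∀ A g, g ∈ normalizer ((Z0 ⊔ zpowers w0 : Subgroup G) : Set G) → A ≤ (S : Subgroup G) →
    conjSub g A ≤ (S : Subgroup G) → Fused W A g
  hns : ¬ Struct p W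

variable {S : Sylow p G} {W Z0 : Subgroup G} {w0 : G}

theorem Setting.wS (h : Setting p S W Z0 w0) : W ≤ (S : Subgroup G) := h.hW ▸ zjGen_le 0 _

theorem Setting.wc (h : Setting p S W Z0 w0) : ∀ x ∈ W, ∀ y ∈ W, x * y = y * x := fun x hx y hy => by
  rw [h.hW] at hx hy; exact zjGen_comm hx hy

theorem Setting.sW (h : Setting p S W Z0 w0) : normalizer ((S : Subgroup G) : Set G) ≤ normalizer (W : Set G) :=
  h.hW ▸ normalizer_le_normalizer_zjGen 0 _

/-- Goodness of a local subgroup. -/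
def Good (p : ℕ) [Fact p.Prime] (S : Sylow p G) (Z0 : Subgroup G) (w0 : G) (X : Subgroup G) : Prop :=
  ∀ v, conjSub v ((S : Subgroup G) ⊓ normalizer (X : Set G)) ≤ (S : Subgroup G) →
    Z0 ⊔ zpowers w0 ≤ conjSub v X

/-- Local subgroups not containing the distinguished subgroup. -/
theorem Setting.bad (h : Setting p S W Z0 w0) {X : Subgroup G} (hX : X ≤ (S : Subgroup G))
    (hfull : Full p (S : Subgroup G) X) (hbad : ¬ Good p S Z0 w0 X)
    (ih : ∀ B g, B ≤ (S : Subgroup G) → conjSub g B ≤ (S : Subgroup G) → Nat.card X < Nat.card B → Fused W B g)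
    {x : G} (hx : x ∈ normalizer (X : Set G)) : Fused W X x := by
  classical
  have := h.zn
  have hZS : Z0 ≤ (S : Subgroup G) := h.zW.trans h.wS
  set K := normalizer (X : Set G) with hK
  by_cases hZX : Z0 ≤ X
  swap
  · have hxT : conjSub x (X ⊔ Z0) = X ⊔ Z0 := by
      rw [CfsgLib.Techniques.Functor.conjSub_sup, conjSub_eq_iff_mem_normalizer.2 hx,
        CfsgLib.Techniques.Functor.conjSub_normal Z0 x]
    exact (ih (X ⊔ Z0) x (sup_le hX hZS) (hxT.le.trans (sup_le hX hZS))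
      (card_lt_of_lt (lt_of_le_not_ge le_sup_left fun hle => hZX (le_sup_right.trans hle)))).mono le_sup_left
  set Q := (S : Subgroup G) ⊓ K with hQ
  have hQp : IsPGroup p Q := S.2.to_le inf_le_left
  -- the stabiliser of the series `1 ≤ Z0 ≤ X`
  let N : Subgroup G :=
    { carrier := {g | g ∈ K ∧ (∀ y ∈ X, ⁅g, y⁆ ∈ Z0) ∧ ∀ z ∈ Z0, g * z = z * g}
      one_mem' := ⟨one_mem _, fun y _ => by simp, fun z _ => by simp⟩
      mul_mem' := fun {a b} ha hb => ⟨mul_mem ha.1 hb.1, fun y hy => by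
        rw [show ⁅a * b, y⁆ = a * ⁅b, y⁆ * a⁻¹ * ⁅a, y⁆ by simp only [commutatorElement_def]; group]
        exact mul_mem ((inferInstance : Z0.Normal).conj_mem _ (hb.2.1 y hy) a) (ha.2.1 y hy),
        fun z hz => by rw [mul_assoc, hb.2.2 z hz, ← mul_assoc, ha.2.2 z hz, mul_assoc]⟩
      inv_mem' := fun {a} ha => ⟨inv_mem ha.1, fun y hy => by
        rw [show ⁅a⁻¹, y⁆ = a⁻¹ * ⁅a, y⁆⁻¹ * a⁻¹⁻¹ by simp only [commutatorElement_def]; group]
        exact (inferInstance : Z0.Normal).conj_mem _ (inv_mem (ha.2.1 y hy)) _,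
        fun z hz => ((show Commute a z from ha.2.2 z hz).inv_left).eq⟩ }
  have hNK : N ≤ K := fun g hg => hg.1
  have hNn : K ≤ normalizer (N : Set G) := fun k hk => CfsgLib.Solvable.mem_normalizer_of_conj_mem fun g hg =>
    ⟨mul_mem (mul_mem hk hg.1) (inv_mem hk), fun y hy => by
      have h1 : k⁻¹ * y * k ∈ X := (mem_normalizer_iff''.1 hk y).1 hy
      have := (inferInstance : Z0.Normal).conj_mem _ (hg.2.1 _ h1) k
      rw [← commutator_conj] at this
      simpa [mul_assoc] using this, fun z hz => by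
      have h1 : k⁻¹ * z * k ∈ Z0 := by simpa using (inferInstance : Z0.Normal).conj_mem z hz k⁻¹
      calc k * g * k⁻¹ * z = k * (g * (k⁻¹ * z * k)) * k⁻¹ := by group
        _ = _ := by rw [hg.2.2 _ h1]; group⟩
  have hCN : centralizer (X : Set G) ≤ N := fun c hc => ⟨centralizer_le_normalizer _ hc, fun y hy => by
    rw [commutatorElement_eq_one_iff_mul_comm.2 (mem_centralizer_iff.1 hc y hy).symm]; exact one_mem _,
    fun z hz => (mem_centralizer_iff.1 hc z (hZX hz)).symm⟩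
  set T1 := Q ⊓ N with hT1
  have hT1i := not_dvd_relIndex_inf hQp inf_le_right hfull hNK hNn
  have hT1X : ¬ T1 ≤ X := by
    intro hle
    obtain ⟨v, hv, hvX⟩ : ∃ v, conjSub v Q ≤ (S : Subgroup G) ∧ ¬ Z0 ⊔ zpowers w0 ≤ conjSub v X := by
      simp only [Good, not_forall] at hbad
      obtain ⟨v, hv, hvX⟩ := hbad
      exact ⟨v, hv, hvX⟩
    apply hvX
    have hvXS : conjSub v X ≤ (S : Subgroup G) := (conjSub_mono v (le_inf hX le_normalizer)).trans hv
    have hZv : Z0 ≤ conjSub v X := by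
      rw [← CfsgLib.Techniques.Functor.conjSub_normal Z0 v]; exact conjSub_mono v hZX
    refine sup_le hZv (zpowers_le.2 ?_)
    set w := v⁻¹ * w0 * v with hw
    have hwN : w ∈ N := by
      have hcomm : ∀ y ∈ X, ⁅w, y⁆ ∈ Z0 := fun y hy => by
        have h1 := inv_mem (h.w0Z (v * y * v⁻¹) (hvXS (conj_mem_conjSub hy)))
        have h2 := (inferInstance : Z0.Normal).conj_mem _ h1 v⁻¹
        rw [commutatorElement_inv] at h2
        rw [← commutator_conj] at h2
        simpa [hw, mul_assoc] using h2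
      refine ⟨CfsgLib.Solvable.mem_normalizer_of_conj_mem fun y hy => ?_, hcomm, fun z hz => ?_⟩
      · have := mul_mem (hZX (hcomm y hy)) hy
        simpa [commutatorElement_def] using this
      · have h1 : v * z * v⁻¹ ∈ Z0 := (inferInstance : Z0.Normal).conj_mem z hz v
        calc w * z = v⁻¹ * (w0 * (v * z * v⁻¹)) * v := by rw [hw]; group
          _ = v⁻¹ * ((v * z * v⁻¹) * w0) * v := by rw [h.wc _ h.w0W _ (h.zW h1)]
          _ = _ := by rw [hw]; group
    obtain ⟨n, hn, hnT⟩ := CfsgLib.Fusion.exists_conj_mem_of_le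
      ((S.2.to_le (zpowers_le.2 (h.wS h.w0W))).map (MulAut.conj v⁻¹).toMonoidHom |>.to_le
        (zpowers_le.2 (mem_map.2 ⟨w0, mem_zpowers w0, by simp [hw]⟩) : zpowers w ≤ _))
      (hQp.to_le (inf_le_left : T1 ≤ Q)) (zpowers_le.2 hwN) inf_le_right hT1i
    have h1 : n * w * n⁻¹ ∈ X := hle (hnT w (mem_zpowers w))
    have h2 : w ∈ X := (mem_normalizer_iff.1 hn.1 w).2 h1
    exact ⟨w, h2, by simp [hw, mul_assoc]⟩
  -- Frattini
  have hxN : conjSub x N = N := conjSub_eq_iff_mem_normalizer.2 (hNn hx)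
  obtain ⟨n, hn, e⟩ := exists_conjSub_eq (H := N) (T := conjSub x T1) (R := T1)
    ((hQp.to_le inf_le_left).map _) (by rw [← hxN]; exact conjSub_mono x inf_le_right)
    (by
      have h2 := CfsgLib.Fusion.not_dvd_relIndex_map (MulAut.conj x).toMonoidHom (inf_le_right : T1 ≤ N) hT1i
      rwa [show N.map (MulAut.conj x).toMonoidHom = N from hxN] at h2)
    (hQp.to_le inf_le_left) inf_le_right hT1i
  rw [conjSub_conjSub] at e
  have hpow : ∀ a ∈ N, ∃ k : ℕ, a ^ p ^ k ∈ centralizer (X : Set G) := by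
    intro a ha
    obtain ⟨j, hj⟩ := IsPGroup.iff_card.1 (S.2.to_le hZS)
    refine ⟨j, mem_centralizer_iff.2 fun y hy => ?_⟩
    set z := ⁅a, y⁆ with hz
    have hzZ : z ∈ Z0 := ha.2.1 y hy
    have hay : a * y * a⁻¹ = z * y := by rw [hz, commutatorElement_def]; group
    have hit : ∀ i : ℕ, a ^ i * y * (a ^ i)⁻¹ = z ^ i * y := by
      intro i
      induction i with
      | zero => simp
      | succ i ihi =>
        calc a ^ (i + 1) * y * (a ^ (i + 1))⁻¹ = a * (a ^ i * y * (a ^ i)⁻¹) * a⁻¹ := by rw [pow_succ']; group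
          _ = (a * z ^ i * a⁻¹) * (a * y * a⁻¹) := by rw [ihi]; group
          _ = z ^ i * (z * y) := by
            rw [hay, ha.2.2 _ (pow_mem hzZ i), mul_inv_cancel_right]
          _ = _ := by rw [pow_succ, mul_assoc]
    have h1 := hit (p ^ j)
    have h2 : z ^ p ^ j = 1 := by
      rw [← hj]
      exact congrArg Subtype.val (pow_card_eq_one' (x := (⟨z, hzZ⟩ : Z0)))
    rw [h2, one_mul, mul_inv_eq_iff_eq_mul] at h1
    exact h1.symm
  have hCnorm : N ≤ normalizer ((centralizer (X : Set G) : Subgroup G) : Set G) := fun a ha =>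
    CfsgLib.Solvable.mem_normalizer_of_conj_mem fun c hc => mem_centralizer_iff.2 fun y hy => by
      have h1 := mem_centralizer_iff.1 hc _ ((mem_normalizer_iff''.1 ha.1 y).1 hy)
      calc y * (a * c * a⁻¹) = a * ((a⁻¹ * y * a) * c) * a⁻¹ := by group
        _ = _ := by rw [h1]; group
  have hle := le_sup_of_pow_mem hCN hCnorm (hQp.to_le inf_le_left) (inf_le_right : T1 ≤ N) hT1i hpow
  obtain ⟨c, hc, t, ht, hnct⟩ := CfsgLib.Solvable.exists_mul_of_mem_sup (K := centralizer (X : Set G)) (A := T1)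
    ((inf_le_right : T1 ≤ N).trans hCnorm) (hle (inv_mem hn))
  set y := n * x with hy
  have hyK : y ∈ K := mul_mem hn.1 hx
  have hyX : conjSub y X = X := conjSub_eq_iff_mem_normalizer.2 hyK
  set T := X ⊔ T1
  have hTS : T ≤ (S : Subgroup G) := sup_le hX ((inf_le_left : T1 ≤ Q).trans inf_le_left)
  obtain ⟨m, hm, hag⟩ := ih T (t * y) hTS (by
      have hT1e : conjSub t T1 = T1 := conjSub_eq_iff_mem_normalizer.2 (le_normalizer ht)
      rw [← conjSub_conjSub, CfsgLib.Techniques.Functor.conjSub_sup, hyX, e,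
        CfsgLib.Techniques.Functor.conjSub_sup, hT1e,
        conjSub_eq_iff_mem_normalizer.2 ((inf_le_right : T1 ≤ N) ht).1]
      exact hTS)
    (card_lt_of_lt (lt_of_le_not_ge le_sup_left fun hle => hT1X (le_sup_right.trans hle)))
  refine ⟨m, hm, fun b hb => ?_⟩
  rw [hag b (mem_sup_left hb)]
  have hx' : x = c * t * y := by rw [hy, ← hnct, inv_mul_cancel_left]
  have hb' : t * y * b * (t * y)⁻¹ ∈ X :=
    (mem_normalizer_iff.1 (mul_mem ((inf_le_right : T1 ≤ N) ht).1 hyK : t * y ∈ K) b).1 hb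
  rw [hx']
  calc t * y * b * (t * y)⁻¹ = c * (t * y * b * (t * y)⁻¹) * c⁻¹ := by
        rw [← mem_centralizer_iff.1 hc _ hb', mul_inv_cancel_right]
    _ = _ := by group

/-- If `J(S)` lies in `O_p(K)` then `K` normalises `W`. -/
theorem Setting.le_normalizer_of_jGen (h : Setting p S W Z0 w0) {K Y : Subgroup G} (hY : Y ≤ (S : Subgroup G))
    (hJ : jGen 0 (S : Subgroup G) ≤ Y) (hK : K ≤ normalizer (Y : Set G)) : K ≤ normalizer (W : Set G) := by
  obtain ⟨A₀, hA₀⟩ := maxAdm_nonempty 0 (S : Subgroup G)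
  have e : zjGen 0 Y = W := by
    rw [h.hW, zjGen, zjGen]
    have : jGen 0 Y = jGen 0 (S : Subgroup G) := by
      refine le_antisymm (sSup_le fun A hA =>
        le_jGen (maxAdm_of_le hY hA₀ ((le_jGen hA₀).trans hJ) hA)) (sSup_le fun A hA => ?_)
      exact le_jGen ⟨(le_jGen hA).trans hJ, hA.2.1, fun B hB hBa => hA.2.2 B (hB.trans hY) hBa⟩
    rw [this]
  exact e ▸ hK.trans (normalizer_le_normalizer_zjGen 0 Y)

set_option maxHeartbeats 1000000 in
/-- Local agreement at good subgroups. -/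
theorem Setting.loc (hp2 : p ≠ 2) (h : Setting p S W Z0 w0) {X : Subgroup G} (hX : X ≤ (S : Subgroup G))
    (hgood : Good p S Z0 w0 X) (hfull : Full p (S : Subgroup G) X)
    (ih : ∀ Y ≤ (S : Subgroup G), Good p S Z0 w0 Y →
      Nat.card ↥((S : Subgroup G) ⊓ normalizer (X : Set G)) <
        Nat.card ↥((S : Subgroup G) ⊓ normalizer (Y : Set G)) → LocalAt (Fused W) (S : Subgroup G) Y) :
    LocalAt (Fused W) (S : Subgroup G) X := by
  classical
  have := h.zn
  set Q := (S : Subgroup G) ⊓ normalizer (X : Set G) with hQ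
  have hQp : IsPGroup p Q := S.2.to_le inf_le_left
  have hXQ : X ≤ Q := le_inf hX le_normalizer
  have hW1X : ∀ v, conjSub v Q ≤ (S : Subgroup G) → v⁻¹ * w0 * v ∈ X := fun v hv => by
    obtain ⟨y, hy, e⟩ := hgood v hv (mem_sup_right (mem_zpowers w0))
    have e' : v * y * v⁻¹ = w0 := e
    rw [← e']
    simpa [mul_assoc] using hy
  have hZX : Z0 ≤ X := by
    have := hgood 1 (by rw [conjSub_one]; exact inf_le_left)
    rw [conjSub_one] at this
    exact le_sup_left.trans this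
  suffices key : ∀ n : ℕ, ∀ K : Subgroup G, Nat.card K ≤ n → Q ≤ K → K ≤ normalizer (X : Set G) →
      ∀ A g, g ∈ K → A ≤ Q → conjSub g A ≤ Q → Fused W A g from
    fun A g hg hA hgA => key _ _ le_rfl inf_le_right le_rfl A g hg hA hgA
  intro n
  induction n using Nat.strong_induction_on with
  | _ n ihn =>
  intro K hn hQK hKN
  have hsub : ∀ K' : Subgroup G, Q ≤ K' → K' ≤ K → K' ≠ K →
      ∀ A g, g ∈ K' → A ≤ Q → conjSub g A ≤ Q → Fused W A g := fun K' hQ' hle hne =>
    ihn (Nat.card K') ((card_lt_of_lt (lt_of_le_of_ne hle hne)).trans_le hn) K' le_rfl hQ' (hle.trans hKN)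
  have hQi : ¬ p ∣ Q.relIndex K := fun hd =>
    hfull (hd.trans (relIndex_mul_relIndex Q K (normalizer (X : Set G)) hQK hKN ▸ Dvd.intro _ rfl))
  set XK := pCoreIn p K with hXK
  have hXXK : X ≤ XK := le_pCoreIn (S.2.to_le hX) (hXQ.trans hQK) hKN
  have hXKQ : XK ≤ Q := pCoreIn_le_sylow hQp hQK hQi
  have hXKS : XK ≤ (S : Subgroup G) := hXKQ.trans inf_le_left
  -- the module
  set π := QuotientGroup.mk' Z0 with hπ
  set gens : Set G := {y | ∃ k ∈ K, ∃ v, conjSub v Q ≤ (S : Subgroup G) ∧ y = k * (v⁻¹ * w0 * v) * k⁻¹}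
  set V := Z0 ⊔ closure gens with hV
  have hgensX : gens ⊆ XK := by
    rintro _ ⟨k, hk, v, hv, rfl⟩
    exact (mem_normalizer_iff.1 (le_normalizer_pCoreIn K hk) _).1 (hXXK (hW1X v hv))
  have hVX : V ≤ XK := sup_le (hZX.trans hXXK) ((closure_le _).2 hgensX)
  have hVK : K ≤ normalizer (V : Set G) := by
    intro k hk
    refine conjSub_eq_iff_mem_normalizer.1 (eq_of_le_of_card_ge ?_ (card_conjSub k _).ge)
    rw [hV, CfsgLib.Techniques.Functor.conjSub_sup, CfsgLib.Techniques.Functor.conjSub_normal Z0 k]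
    refine sup_le_sup_left ?_ _
    rw [conjSub, MonoidHom.map_closure]
    refine closure_mono ?_
    rintro _ ⟨_, ⟨k', hk', v, hv, rfl⟩, rfl⟩
    exact ⟨k * k', mul_mem hk hk', v, hv, by simp [mul_assoc]⟩
  have hcen : ∀ x ∈ XK, ∀ y ∈ V, π x * π y = π y * π x := by
    have hle : V ≤ (centralizer (π '' (XK : Set G))).comap π := by
      refine sup_le (fun z hz => ?_) ((closure_le _).2 ?_)
      · show π z ∈ centralizer _
        rw [show π z = 1 from (QuotientGroup.eq_one_iff z).2 hz]; exact one_mem _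
      rintro _ ⟨k, hk, v, hv, rfl⟩
      refine mem_centralizer_iff.2 ?_
      rintro _ ⟨x, hx, rfl⟩
      have h1 : k⁻¹ * x * k ∈ XK := (mem_normalizer_iff''.1 (le_normalizer_pCoreIn K hk) x).1 hx
      have h2 : v * (k⁻¹ * x * k) * v⁻¹ ∈ (S : Subgroup G) := hv (conj_mem_conjSub (hXKQ h1))
      have h3 := (inferInstance : Z0.Normal).conj_mem _ (h.w0Z _ h2) (k * v⁻¹)
      rw [← commutator_conj] at h3
      have h5 : ⁅x, k * (v⁻¹ * w0 * v) * k⁻¹⁆ ∈ Z0 := by
        convert h3 using 2 <;> group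
      have h4 : π ⁅x, k * (v⁻¹ * w0 * v) * k⁻¹⁆ = 1 := (QuotientGroup.eq_one_iff _).2 h5
      rwa [map_commutatorElement, commutatorElement_eq_one_iff_mul_comm] at h4
    exact fun x hx y hy => mem_centralizer_iff.1 (hle hy) _ ⟨x, hx, rfl⟩
  have hVc : ∀ x ∈ V, ∀ y ∈ V, ⁅x, y⁆ ∈ Z0 := fun x hx y hy => by
    rw [← QuotientGroup.eq_one_iff]
    show π ⁅x, y⁆ = 1
    rw [map_commutatorElement, commutatorElement_eq_one_iff_mul_comm]
    exact hcen x (hVX hx) y hy
  have hVp : ∀ x ∈ V, x ^ p ∈ Z0 := by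
    intro x hx
    rw [← QuotientGroup.eq_one_iff]
    show π (x ^ p) = 1
    rw [map_pow]
    rw [hV, ← Subgroup.closure_eq Z0, ← Subgroup.closure_union] at hx
    induction hx using closure_induction with
    | mem y hy =>
      rw [← map_pow]
      refine (QuotientGroup.eq_one_iff _).2 ?_
      rcases hy with hy | ⟨k, -, v, -, rfl⟩
      · exact pow_mem hy p
      · rw [conj_pow]
        have h1 := (inferInstance : Z0.Normal).conj_mem _ h.w0p v⁻¹
        rw [inv_inv] at h1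
        have h2 := (inferInstance : Z0.Normal).conj_mem _ h1 k
        convert h2 using 1
        rw [show (v⁻¹ * w0 * v) ^ p = v⁻¹ * w0 ^ p * v from by simpa using conj_pow (i := p) (a := v⁻¹) (b := w0)]
    | one => rw [map_one, one_pow]
    | mul y z hy hz hy' hz' =>
      rw [Subgroup.closure_union, Subgroup.closure_eq] at hy hz
      rw [map_mul, (show Commute (π y) (π z) from hcen y (hVX hy) z hz).mul_pow, hy', hz', one_mul]
    | inv y _ hy' => rw [map_inv, inv_pow, hy', inv_one]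
  have hfixX : ∀ y ∈ XK, FixMod V Z0 y := fun y hy v hv => by
    rw [← QuotientGroup.eq_one_iff]
    show π ⁅y, v⁆ = 1
    rw [map_commutatorElement, commutatorElement_eq_one_iff_mul_comm]
    exact hcen y hy v hv
  have hw0V : w0 ∈ V := mem_sup_right (subset_closure
    ⟨1, one_mem _, 1, by rw [conjSub_one]; exact inf_le_left, by group⟩)
  have hW1V : Z0 ⊔ zpowers w0 ≤ W ⊓ V :=
    sup_le (le_inf h.zW le_sup_left) (zpowers_le.2 ⟨h.w0W, hw0V⟩)
  -- stabilisers of sections
  let fixer : Subgroup G → Subgroup G := fun U =>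
    { carrier := {g | g ∈ K ∧ ∀ v ∈ U, π (g * v * g⁻¹) = π v}
      one_mem' := ⟨one_mem _, fun v _ => by simp⟩
      mul_mem' := fun {a b} ha hb => ⟨mul_mem ha.1 hb.1, fun v hv => by
        have h1 := ha.2 v hv
        have h2 := hb.2 v hv
        simp only [map_mul, map_inv] at h1 h2 ⊢
        calc π a * π b * π v * (π a * π b)⁻¹ = π a * (π b * π v * (π b)⁻¹) * (π a)⁻¹ := by group
          _ = π v := by rw [h2]; exact h1⟩
      inv_mem' := fun {a} ha => ⟨inv_mem ha.1, fun v hv => by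
        have h1 := ha.2 v hv
        simp only [map_mul, map_inv] at h1 ⊢
        conv_lhs => rw [← h1]
        group⟩ }
  have hfixn : ∀ U : Subgroup G, K ≤ normalizer (U : Set G) → K ≤ normalizer (fixer U : Set G) := by
    intro U hU k hk
    refine CfsgLib.Solvable.mem_normalizer_of_conj_mem fun g hg => ⟨mul_mem (mul_mem hk hg.1) (inv_mem hk),
      fun v hv => ?_⟩
    have h1 := congrArg (fun y => π k * y * (π k)⁻¹) (hg.2 _ ((mem_normalizer_iff''.1 (hU hk) v).1 hv))
    simp only [map_mul, map_inv] at h1 ⊢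
    calc π k * π g * (π k)⁻¹ * π v * (π k * π g * (π k)⁻¹)⁻¹
        = π k * (π g * ((π k)⁻¹ * π v * π k) * (π g)⁻¹) * (π k)⁻¹ := by group
      _ = π v := by rw [h1]; group
  -- the composition step
  have hcomp : ∀ U : Subgroup G, K ≤ normalizer (U : Set G) → Z0 ⊔ zpowers w0 ≤ U →
      XK ≤ fixer U → Q ⊓ fixer U ≠ XK → ∀ A g, g ∈ K → A ≤ Q → conjSub g A ≤ Q → Fused W A g := by
    intro U hUK hW1U hXU hne
    refine fused_of_frattini hQp hQK hQi (show fixer U ≤ K from fun g hg => hg.1) (hfixn U hUK) (fun B c hc hB hcB => ?_) ?_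
    · refine h.hC1 B c (CfsgLib.Solvable.mem_normalizer_of_conj_mem fun y hy => ?_)
        (hB.trans inf_le_left) (hcB.trans inf_le_left)
      have h1 : c * y * c⁻¹ * y⁻¹ ∈ Z0 := by
        rw [← QuotientGroup.eq_one_iff]
        show π (c * y * c⁻¹ * y⁻¹) = 1
        rw [map_mul, map_inv, hc.2 y (hW1U hy), mul_inv_cancel]
      have h2 := (Z0 ⊔ zpowers w0).mul_mem (mem_sup_left h1) hy
      simpa using h2
    · intro B d hd hB hdB
      refine hsub (K ⊓ normalizer ((Q ⊓ fixer U : Subgroup G) : Set G)) (le_inf hQK ?_) inf_le_left ?_ B d hd hB hdB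
      · exact fun q hq => CfsgLib.Solvable.mem_normalizer_of_conj_mem fun y hy =>
          ⟨Q.mul_mem (Q.mul_mem hq hy.1) (Q.inv_mem hq), (mem_normalizer_iff.1 (hfixn U hUK (hQK hq)) y).1 hy.2⟩
      · intro he
        exact hne (le_antisymm (le_pCoreIn (hQp.to_le inf_le_left) (inf_le_left.trans hQK) (inf_eq_left.1 he))
          (le_inf hXKQ hXU))
  -- climbing
  have hclimb : ∀ Y : Subgroup G, V ≤ Y → Y ≤ (S : Subgroup G) → K ≤ normalizer (Y : Set G) →
      Nat.card Q < Nat.card ↥((S : Subgroup G) ⊓ normalizer (Y : Set G)) →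
      ∀ A g, g ∈ K → A ≤ Q → conjSub g A ≤ Q → Fused W A g := by
    intro Y hVY hYS hKY hlt A g hg hA hgA
    have hQY : Q ≤ (S : Subgroup G) ⊓ normalizer (Y : Set G) := le_inf inf_le_left (hQK.trans hKY)
    refine ih Y hYS (fun v hv => ?_) hlt A g (hKY hg) (hA.trans hQY) (hgA.trans hQY)
    have hvQ : conjSub v Q ≤ (S : Subgroup G) := (conjSub_mono v hQY).trans hv
    refine sup_le ?_ (zpowers_le.2 ?_)
    · rw [← CfsgLib.Techniques.Functor.conjSub_normal Z0 v]
      exact conjSub_mono v (le_sup_left.trans hVY)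
    · refine ⟨v⁻¹ * w0 * v, hVY (mem_sup_right (subset_closure ⟨1, one_mem _, v, hvQ, by group⟩)), ?_⟩
      simp [mul_assoc]
  -- `O_p(K)` is the stabiliser of `V`
  have hXKV : XK ≤ fixer V := fun y hy =>
    ⟨pCoreIn_le K hy, fun v hv => (fixMod_iff.1 (hfixX y hy)) v hv⟩
  by_cases hD : Q ⊓ fixer V ≠ XK
  · exact hcomp V hVK (hW1V.trans inf_le_right) hXKV hD
  push Not at hD
  have hfixQ : ∀ y ∈ Q, FixMod V Z0 y → y ∈ XK := fun y hy hf =>
    hD.le ⟨hy, hQK hy, fixMod_iff.1 hf⟩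
  by_cases hmov : K ≤ normalizer ((W ⊓ V : Subgroup G) : Set G)
  · -- `W ⊓ V` is invariant
    set U := W ⊓ V with hU
    have hXU : XK ≤ fixer U := fun y hy => ⟨pCoreIn_le K hy, fun v hv => (hXKV hy).2 v hv.2⟩
    by_cases hD' : Q ⊓ fixer U ≠ XK
    · exact hcomp U hmov hW1V hXU hD'
    push Not at hD'
    by_cases hQ1 : Nat.card Q < Nat.card ↥((S : Subgroup G) ⊓ normalizer (XK : Set G))
    · exact hclimb XK hVX hXKS (le_normalizer_pCoreIn K) hQ1
    have hQN : (S : Subgroup G) ⊓ normalizer (XK : Set G) = Q :=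
      (eq_of_le_of_card_ge (le_inf inf_le_left (hQK.trans (le_normalizer_pCoreIn K))) (not_lt.1 hQ1)).symm
    have hJ : jGen 0 (S : Subgroup G) ≤ XK := by
      set J := jGen 0 (S : Subgroup G) with hJdef
      have hJS : J ≤ (S : Subgroup G) := jGen_le 0 _
      have hJX : ∀ j ∈ J, j ∈ Q → j ∈ XK := fun j hj hjQ => hD'.le ⟨hjQ, hQK hjQ, fun v hv => by
        have h1 : j * v = v * j := by
          have h2 := hv.1
          rw [h.hW] at h2
          exact mem_centralizer_iff.1 h2.2 j hj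
        rw [h1, mul_inv_cancel_right]⟩
      have hSJ : (S : Subgroup G) ≤ normalizer (J : Set G) := fun s hs => by
        refine CfsgLib.Solvable.mem_normalizer_of_conj_mem fun y hy => ?_
        have hm : (S : Subgroup G).map (MulAut.conj s).toMonoidHom = S :=
          conjSub_eq_iff_mem_normalizer.2 (le_normalizer hs)
        have := jGen_map (e := 0) (f := (MulAut.conj s).toMonoidHom) (MulAut.conj s).injective (S : Subgroup G)
        rw [hm] at this
        rw [hJdef, this]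
        exact ⟨y, hy, rfl⟩
      by_contra hnot
      have hlt : XK < XK ⊔ J := lt_of_le_not_ge le_sup_left fun hle => hnot (le_sup_right.trans hle)
      obtain ⟨y, hy, hyX⟩ := SetLike.exists_of_lt (lt_norm (S.2.to_le (sup_le hXKS hJS)) hlt)
      have hyQ : y ∈ Q := hQN.le ⟨(sup_le hXKS hJS) hy.1, hy.2⟩
      have hyJ : y ∈ J ⊔ XK := by rw [sup_comm]; exact hy.1
      obtain ⟨j, hj, x, hx, rfl⟩ := CfsgLib.Solvable.exists_mul_of_mem_sup (K := J) (A := XK)
        (hXKS.trans hSJ) hyJ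
      exact hyX (mul_mem (hJX j hj (by simpa using Q.mul_mem hyQ (Q.inv_mem (hXKQ hx)))) hx)
    exact fun A g hg _ _ =>
      ⟨g, h.le_normalizer_of_jGen hXKS hJ (le_normalizer_pCoreIn K) hg, Agree.refl A g⟩
  -- a quadratic element
  suffices hq : (∃ a ∈ Q, a ∉ XK ∧ ∀ v ∈ V, ⁅⁅v, a⁆, a⁆ ∈ Z0) ∨
      ∀ A g, g ∈ K → A ≤ Q → conjSub g A ≤ Q → Fused W A g by
    rcases hq with ⟨a, haQ, haX, haq⟩ | hq
    · refine absurd (LocalHyp.struct (Z0 := Z0) (K := K) (Q := Q) (V := V) (a := a) hp2 ?_) h.hns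
      exact ⟨h.wc, h.zW, hQp, inf_le_left.trans (le_normalizer.trans h.sW), hQK, hQi, hVX, hVK,
        le_sup_left, hVc, hVp, hfixX, hfixQ, hmov, hsub, haQ, haq, fun hf => haX (hfixQ a haQ hf)⟩
    · exact hq
  rcases eq_or_lt_of_le (inf_le_left : Q ≤ (S : Subgroup G)) with hQS | hQS
  swap
  · obtain ⟨g, hg, hgQ⟩ := SetLike.exists_of_lt (lt_norm S.2 hQS)
    rcases exists_quad_or_invariant hQp hQK hQi hVX hVK hVc (g := g) hg.2 with h1 | ⟨Y, hVY, hYX, hKY, hgY⟩
    · exact Or.inl h1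
    · refine Or.inr (hclimb Y hVY (hYX.trans hXKS) hKY ?_)
      exact card_lt_of_lt (lt_of_le_not_ge (le_inf inf_le_left (hQK.trans hKY))
        fun hle => hgQ (hle ⟨hg.1, hgY⟩))
  -- `Q = S`: use an abelian subgroup of maximal order
  have hQS' : Q = (S : Subgroup G) := hQS
  by_cases hF : ∀ A ∈ maxAdm 0 (S : Subgroup G), A ≤ XK
  · exact Or.inr fun A g hg _ _ =>
      ⟨g, h.le_normalizer_of_jGen hXKS (sSup_le hF) (le_normalizer_pCoreIn K) hg, Agree.refl A g⟩
  left
  push Not at hF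
  obtain ⟨A0, hA0, hA0X⟩ := hF
  obtain ⟨A, ⟨hA, hAX⟩, hmax⟩ :=
    (Set.toFinite {A | A ∈ maxAdm 0 (S : Subgroup G) ∧ ¬ A ≤ XK}).exists_maximalFor
      (fun A : Subgroup G => Nat.card (A ⊓ V : Subgroup G)) _ ⟨A0, hA0, hA0X⟩
  have hAK : A ≤ K := hA.1.trans (hQS'.ge.trans hQK)
  obtain ⟨a, haA, haX⟩ := SetLike.not_le_iff_exists.1 hAX
  refine ⟨a, hQS'.ge (hA.1 haA), haX, ?_⟩
  suffices hVA : V ≤ normalizer (A : Set G) by
    intro v hv
    have h1 : ⁅v, a⁆ ∈ A := by
      rw [commutatorElement_def]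
      exact A.mul_mem ((mem_normalizer_iff.1 (hVA hv) a).1 haA) (A.inv_mem haA)
    rw [commutatorElement_eq_one_iff_mul_comm.2 (adm_comm hA.2.1 h1 haA)]
    exact one_mem _
  by_contra hVA
  set N := (S : Subgroup G) ⊓ normalizer (A : Set G) with hN
  have hVS : V ≤ (S : Subgroup G) := hVX.trans hXKS
  have hNV : N ≤ normalizer (V : Set G) :=
    (inf_le_left : N ≤ (S : Subgroup G)).trans (hQS'.ge.trans (hQK.trans hVK))
  obtain ⟨y, hy, hyN⟩ := SetLike.exists_of_lt (lt_norm (S.2.to_le (sup_le hVS inf_le_left))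
    (lt_of_le_not_ge (le_sup_right : N ≤ V ⊔ N) fun hle => hVA ((le_sup_left.trans hle).trans inf_le_right)))
  obtain ⟨b, hbV, n', hn', e⟩ := CfsgLib.Solvable.exists_mul_of_mem_sup (K := V) (A := N) hNV hy.1
  have hbN : b ∈ normalizer (N : Set G) := by
    have e2 : b = y * n'⁻¹ := by rw [e, mul_inv_cancel_right]
    rw [e2]
    exact mul_mem hy.2 (inv_mem (le_normalizer hn'))
  have hbA : b ∉ normalizer (A : Set G) := fun hb => hyN (by
    rw [e]; exact N.mul_mem ⟨hVS hbV, hb⟩ hn')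
  have hAN : A ≤ N := le_inf hA.1 le_normalizer
  have hZA : ∀ z ∈ W, ∀ B ∈ maxAdm 0 (S : Subgroup G), z ∈ B := fun z hz B hB => by
    rw [h.hW] at hz
    exact mem_of_commute_maxAdm (p := orderOf z) (Or.inl rfl) hB (zjGen_le 0 _ hz) (pow_orderOf_eq_one z) fun a ha =>
      (mem_centralizer_iff.1 hz.2 a (le_jGen hB ha)).symm
  have hR : ReplaceData A V b :=
    { comm := hA.2.1.1
      derived := commutator_le.2 fun x hx y hy => hZA _ (h.zW (hVc x hx y hy)) A hA
      normB := hAK.trans hVK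
      memB := hbV
      conj := fun a ha => ((mem_normalizer_iff''.1 hbN a).1 (hAN ha)).2
      conj' := fun a ha => ((mem_normalizer_iff.1 hbN a).1 (hAN ha)).2
      twist := Or.inr (by
        obtain ⟨j, hj⟩ := (IsPGroup.iff_orderOf.1 S.2) ⟨b, hVS hbV⟩
        rw [orderOf_mk] at hj
        rw [hj]
        exact (hp.out.odd_of_ne_two hp2).pow) }
  have hA'S : replaced A b ≤ (S : Subgroup G) := by
    intro g hg
    obtain ⟨z, hz, a, ha, rfl⟩ := hR.mem_replaced_iff.1 hg
    exact mul_mem (hA.1 hz.1) (mul_mem (inv_mem (hA.1 ha))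
      (mul_mem (mul_mem (inv_mem (hVS hbV)) (hA.1 ha)) (hVS hbV)))
  have hA' : replaced A b ∈ maxAdm 0 (S : Subgroup G) :=
    ⟨hA'S, ⟨hR.isMulCommutative_replaced, fun a _ => pow_zero a⟩,
      fun C hC hCa => hR.card_replaced.symm ▸ hA.2.2 C hC hCa⟩
  have hlt := hR.inf_lt_replaced_inf hbA
  have hA'X : replaced A b ≤ XK := by
    by_contra hn'
    exact hlt.ne (eq_of_le_of_card_ge hlt.le (hmax ⟨hA', hn'⟩ (card_le_of_le hlt.le)))
  -- `V` centralises the members inside `O_p(K)`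
  have hJXK : K ≤ normalizer (jGen 0 XK : Set G) := fun k hk => by
    refine conjSub_eq_iff_mem_normalizer.1 ?_
    have e1 : XK.map (MulAut.conj k).toMonoidHom = XK :=
      conjSub_eq_iff_mem_normalizer.2 (le_normalizer_pCoreIn K hk)
    have e2 := jGen_map (e := 0) (f := (MulAut.conj k).toMonoidHom) (MulAut.conj k).injective XK
    rw [e1] at e2
    exact e2.symm
  have hA'J : replaced A b ≤ jGen 0 XK :=
    le_jGen ⟨hA'X, hA'.2.1, fun C hC hCa => hA'.2.2 C (hC.trans hXKS) hCa⟩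
  have hJJ : jGen 0 XK ≤ jGen 0 (S : Subgroup G) := sSup_le fun B hB =>
    le_jGen (maxAdm_of_le hXKS hA' hA'X hB)
  have hWJ : W ≤ centralizer (jGen 0 XK : Set G) := fun z hz => by
    rw [h.hW] at hz
    exact centralizer_le hJJ hz.2
  have hVC : V ≤ centralizer (jGen 0 XK : Set G) := by
    refine sup_le (h.zW.trans hWJ) ((closure_le _).2 ?_)
    rintro _ ⟨k, hk, v, hv, rfl⟩
    have hvW : v⁻¹ * w0 * v ∈ W := by
      rw [hQS'] at hv
      have hvN := h.sW (conjSub_eq_iff_mem_normalizer.1 (eq_of_le_of_card_ge hv (card_conjSub v _).ge))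
      exact (mem_normalizer_iff''.1 hvN w0).1 h.w0W
    refine mem_centralizer_iff.2 fun j hj => ?_
    have h1 := mem_centralizer_iff.1 (hWJ hvW) _ ((mem_normalizer_iff''.1 (hJXK hk) j).1 hj)
    calc j * (k * (v⁻¹ * w0 * v) * k⁻¹) = k * ((k⁻¹ * j * k) * (v⁻¹ * w0 * v)) * k⁻¹ := by group
      _ = _ := by rw [h1]; group
  exact hbA (hR.replaced_le_normalizer (mem_of_commute_maxAdm (p := orderOf b) (Or.inl rfl) hA' (hVS hbV) (pow_orderOf_eq_one b)
    fun a ha => (mem_centralizer_iff.1 (hVC hbV) a (hA'J ha)).symm))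

/-- Control unless the structure appears, given control in `N(W₁)`. -/
theorem Setting.control (hp2 : p ≠ 2) (h : Setting p S W Z0 w0) :
    ∀ A g, A ≤ (S : Subgroup G) → conjSub g A ≤ (S : Subgroup G) → Fused W A g := by
  refine local_global_good S (Fused W) (Good p S Z0 w0) (fun hBA hf => hf.mono hBA) Fused.trans ?_
    (fun g hg => ⟨g, h.sW hg, Agree.refl _ g⟩) ?_ ?_
  · intro X u hX hu v hv
    rw [conjSub_conjSub]
    refine hX _ ?_
    rw [← conjSub_conjSub]
    exact (conjSub_mono v (CfsgLib.Techniques.Functor.conjSub_norm_le hu)).trans hv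
  · exact fun X hX hfull hbad ih x hx => h.bad hX hfull hbad ih hx
  · exact fun X hX hgood hfull ih => h.loc hp2 hX hgood hfull ih

universe u

/-- The induction on the group order. -/
theorem control_or_struct (hp2 : p ≠ 2) : ∀ (n : ℕ) {G : Type u} [Group G] [Finite G] (S : Sylow p G),
    Nat.card G ≤ n → ¬ Struct p (zjGen 0 (S : Subgroup G)) →
    ∀ A g, A ≤ (S : Subgroup G) → conjSub g A ≤ (S : Subgroup G) → Fused (zjGen 0 (S : Subgroup G)) A g := by
  intro n
  induction n using Nat.strong_induction_on with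
  | _ n ih =>
  intro G _ _ S hn hns A g hA hgA
  classical
  set W := zjGen 0 (S : Subgroup G) with hW
  by_cases hWn : normalizer (W : Set G) = ⊤
  · exact ⟨g, hWn ▸ mem_top g, Agree.refl A g⟩
  have hWS : W ≤ (S : Subgroup G) := zjGen_le 0 _
  have hSW : (S : Subgroup G) ≤ normalizer (W : Set G) :=
    le_normalizer.trans (normalizer_le_normalizer_zjGen 0 _)
  set Z0 := W.normalCore with hZ0
  have hZW : Z0 ≤ W := normalCore_le W
  set π := QuotientGroup.mk' Z0 with hπ
  set Sb := (S : Subgroup G).map π with hSb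
  set Wb := (W.map π).subgroupOf Sb with hWb
  have hWbn : Wb.Normal := ⟨fun x hx s => by
    obtain ⟨w, hw, e⟩ := mem_subgroupOf.1 hx
    obtain ⟨t, ht, e'⟩ := s.2
    refine mem_subgroupOf.2 ⟨t * w * t⁻¹, (mem_normalizer_iff.1 (hSW ht) w).1 hw, ?_⟩
    simp [e, e']⟩
  have hWb1 : Wb ≠ ⊥ := by
    intro hbot
    have hle : W ≤ Z0 := fun w hw => by
      have h1 : (⟨π w, w, hWS hw, rfl⟩ : Sb) ∈ Wb := mem_subgroupOf.2 ⟨w, hw, rfl⟩
      rw [hbot, mem_bot] at h1
      exact (QuotientGroup.eq_one_iff w).1 (congrArg Subtype.val h1)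
    have hWnor : W.Normal := le_antisymm hle hZW ▸ normalCore_normal W
    exact hWn (normalizer_eq_top W)
  obtain ⟨⟨y, hy⟩, ⟨hyW, hyc⟩, hyo⟩ := CfsgLib.PGroup.exists_orderOf_eq (S.2.map π)
    (CfsgLib.PGroup.inf_center_ne_bot (S.2.map π) Wb hWb1)
  obtain ⟨w0, hw0, rfl⟩ := mem_subgroupOf.1 hyW
  have hw0p : w0 ^ p ∈ Z0 := by
    rw [← QuotientGroup.eq_one_iff]
    show π (w0 ^ p) = 1
    rw [map_pow]
    have := congrArg Subtype.val (pow_orderOf_eq_one (⟨π w0, hy⟩ : Sb))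
    rw [hyo] at this
    simpa using this
  have hw0Z : w0 ∉ Z0 := fun hz => by
    have e1 : (⟨π w0, hy⟩ : Sb) = 1 := Subtype.ext ((QuotientGroup.eq_one_iff w0).2 hz)
    rw [e1, orderOf_one] at hyo
    exact hp.out.one_lt.ne hyo
  have hw0S : ∀ s ∈ (S : Subgroup G), ⁅s, w0⁆ ∈ Z0 := fun s hs => by
    rw [← QuotientGroup.eq_one_iff]
    show π ⁅s, w0⁆ = 1
    rw [map_commutatorElement, commutatorElement_eq_one_iff_mul_comm]
    exact congrArg Subtype.val (mem_center_iff.1 hyc ⟨π s, s, hs, rfl⟩)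
  set W1 := Z0 ⊔ zpowers w0 with hW1
  have hW1W : W1 ≤ W := sup_le hZW (zpowers_le.2 hw0)
  set M := normalizer (W1 : Set G) with hM
  have hMne : M ≠ ⊤ := fun he => by
    have : W1.Normal := normalizer_eq_top_iff.1 he
    exact hw0Z (normal_le_normalCore.2 hW1W (mem_sup_right (mem_zpowers w0)))
  have hSM : (S : Subgroup G) ≤ M := fun s hs => CfsgLib.Solvable.mem_normalizer_of_conj_mem fun x hx => by
    have hcl : W1 ≤ (W1.comap (MulAut.conj s).toMonoidHom) := by
      refine sup_le (fun z hz => mem_sup_left ((inferInstance : Z0.Normal).conj_mem z hz s)) (zpowers_le.2 ?_)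
      show s * w0 * s⁻¹ ∈ W1
      rw [show s * w0 * s⁻¹ = ⁅s, w0⁆ * w0 by rw [commutatorElement_def]; group]
      exact mul_mem (mem_sup_left (hw0S s hs)) (mem_sup_right (mem_zpowers w0))
    exact hcl hx
  have hlt : Nat.card M < n := lt_of_lt_of_le
    (lt_of_le_of_ne (card_le_card_group M) fun e => hMne (eq_top_of_card_eq M e)) hn
  let T : Sylow p M := S.subtype hSM
  have hT : (T : Subgroup M).map M.subtype = (S : Subgroup G) := by
    show ((S : Subgroup G).subgroupOf M).map M.subtype = _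
    rw [subgroupOf_map_subtype, inf_eq_left.2 hSM]
  have hWT : (zjGen 0 (T : Subgroup M)).map M.subtype = W := by
    rw [← zjGen_map M.subtype_injective, hT]
  have hnormT : (normalizer (zjGen 0 (T : Subgroup M) : Set M)).map M.subtype ≤ normalizer (W : Set G) := by
    rw [← hWT]; exact le_normalizer_map M.subtype
  have hnsT : ¬ Struct p (zjGen 0 (T : Subgroup M)) := by
    rintro ⟨hinv, c, hc, hco, j, hj, m, hm, hmc⟩
    refine hns ⟨?_, (c : G), hWT ▸ mem_map_of_mem M.subtype hc, by rw [Subgroup.orderOf_coe, hco], j, hj,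
      (m : G), hnormT (mem_map_of_mem M.subtype hm), by simpa using congrArg Subtype.val hmc⟩
    obtain ⟨S', R', hn', ⟨e⟩⟩ := hinv
    let ι : normalizer (zjGen 0 (T : Subgroup M) : Set M) →* normalizer (W : Set G) :=
      (M.subtype.comp (Subgroup.subtype _)).codRestrict _ fun x => hnormT (mem_map_of_mem M.subtype x.2)
    have hι : Function.Injective ι := fun x y e => Subtype.ext (Subtype.ext (congrArg Subtype.val e :))
    let i := S'.equivMapOfInjective ι hι
    exact involves_of_surjective (f := e.toMonoidHom.comp ((QuotientGroup.mk' _).comp i.symm.toMonoidHom))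
      (e.surjective.comp ((QuotientGroup.mk'_surjective _).comp i.symm.surjective))
  have hC1 : ∀ B c, c ∈ M → B ≤ (S : Subgroup G) → conjSub c B ≤ (S : Subgroup G) → Fused W B c := by
    intro B c hc hB hcB
    obtain ⟨m, hm, hag⟩ := ih (Nat.card M) hlt T le_rfl hnsT (B.subgroupOf M) ⟨c, hc⟩
      (fun x hx => hB hx) (by
        rintro _ ⟨x, hx, rfl⟩
        exact hcB (conj_mem_conjSub (g := c) hx))
    exact ⟨(m : G), hnormT (mem_map_of_mem M.subtype hm), fun b hb => by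
      simpa using congrArg Subtype.val (hag ⟨b, hSM (hB hb)⟩ hb)⟩
  exact Setting.control hp2
    (⟨rfl, inferInstance, hZW, hw0, hw0S, hw0p, hC1, hns⟩ : Setting p S W Z0 w0) A g hA hgA

end CfsgLib.LocalEven.ZJFusion
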