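import Cfsg.Prelude.Def_LocalEven
import Cfsg.Agent.Lib.PStab.ControlLocal

/-!
Auxiliary facts for fusion controlled by the normaliser of an abelian normal subgroup of a Sylow subgroup.
-/

set_option autoImplicit false

namespace CfsgLib.LocalEven.ZJFusion

open Cfsg Subgroup
open CfsgLib.Fusion (conjSub conj_mem_conjSub conjSub_conjSub conjSub_mono conjSub_one)
open CfsgLib.Techniques.Functor (Agree)
open scoped commutatorElement

variable {G : Type*} [Group G]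

/-- The conjugation is realised in `N(W)`. -/
def Fused (W A : Subgroup G) (g : G) : Prop := ∃ m ∈ normalizer (W : Set G), Agree A m g

theorem Fused.mono {W A B : Subgroup G} {g : G} (h : Fused W A g) (hBA : B ≤ A) : Fused W B g := by
  obtain ⟨m, hm, hag⟩ := h; exact ⟨m, hm, hag.mono hBA⟩

theorem Fused.trans {W A : Subgroup G} {g h : G} (h1 : Fused W A g) (h2 : Fused W (conjSub g A) h) :
    Fused W A (h * g) := by
  obtain ⟨m, hm, hag⟩ := h1; obtain ⟨m2, hm2, hag2⟩ := h2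
  exact ⟨m2 * m, mul_mem hm2 hm, hag.mul hag2⟩

/-- The conclusion of the failure theorem. -/
def Struct (p : ℕ) [Fact p.Prime] (W : Subgroup G) : Prop :=
  Cfsg.Involves ↥(Cfsg.fOver (ZMod p)) ↥(normalizer (W : Set G)) ∧
    ∃ c ∈ W, orderOf c = p ∧ ∃ j : ℕ, orderOf (j : ZMod p) = p - 1 ∧
      ∃ m ∈ normalizer (W : Set G), m * c * m⁻¹ = c ^ j

/-- `g` fixes every element of `V` modulo `Z0`. -/
def FixMod (V Z0 : Subgroup G) (g : G) : Prop := ∀ v ∈ V, ⁅g, v⁆ ∈ Z0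

theorem commutator_conj (k x y : G) : ⁅k * x * k⁻¹, k * y * k⁻¹⁆ = k * ⁅x, y⁆ * k⁻¹ := by
  simp only [commutatorElement_def]; group

theorem FixMod.conj {V Z0 : Subgroup G} [Z0.Normal] {g k : G} (h : FixMod V Z0 g)
    (hk : k ∈ normalizer (V : Set G)) : FixMod V Z0 (k * g * k⁻¹) := by
  intro v hv
  have h1 : k⁻¹ * v * k ∈ V := (mem_normalizer_iff''.1 hk v).1 hv
  have := (inferInstance : Z0.Normal).conj_mem _ (h _ h1) k
  rw [← commutator_conj] at this
  simpa [mul_assoc] using this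

theorem fixMod_iff {V Z0 : Subgroup G} [Z0.Normal] {g : G} :
    FixMod V Z0 g ↔ ∀ v ∈ V, QuotientGroup.mk' Z0 (g * v * g⁻¹) = QuotientGroup.mk' Z0 v := by
  refine forall₂_congr fun v _ => ?_
  rw [← QuotientGroup.eq_one_iff, commutatorElement_def]
  show QuotientGroup.mk' Z0 (g * v * g⁻¹ * v⁻¹) = 1 ↔ _
  rw [map_mul, map_inv, mul_inv_eq_one]

variable [Finite G] {p : ℕ} [hp : Fact p.Prime]

/-- A subgroup whose elements have `p`-power powers in `N` is `N` times a Sylow subgroup. -/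
theorem le_sup_of_pow_mem {N P L : Subgroup G} (hN : N ≤ L) (hn : L ≤ normalizer (N : Set G))
    (hP : IsPGroup p P) (hPL : P ≤ L) (hidx : ¬ p ∣ P.relIndex L)
    (hpow : ∀ x ∈ L, ∃ k : ℕ, x ^ p ^ k ∈ N) : L ≤ N ⊔ P := by
  have hnor : (N.subgroupOf L).Normal := normal_subgroupOf_of_le_normalizer hn
  let T : Sylow p L := IsPGroup.toSylow (hP.of_equiv (subgroupOfEquivOfLe hPL).symm) hidx
  have hT : (T : Subgroup L) = P.subgroupOf L := IsPGroup.toSylow_coe _ _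
  set φ := QuotientGroup.mk' (N.subgroupOf L)
  have hφ : Function.Surjective φ := QuotientGroup.mk'_surjective _
  have hQp : IsPGroup p (L ⧸ N.subgroupOf L) := by
    intro y
    obtain ⟨x, rfl⟩ := hφ y
    obtain ⟨k, hk⟩ := hpow x x.2
    exact ⟨k, by rw [← map_pow]; exact (QuotientGroup.eq_one_iff _).2 (mem_subgroupOf.2 (by simpa using hk))⟩
  have htop : ((T.mapSurjective hφ : Sylow p _) : Subgroup (L ⧸ N.subgroupOf L)) = ⊤ :=
    (T.mapSurjective hφ).3 (hQp.to_subgroup ⊤) le_top |>.symm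
  intro x hx
  obtain ⟨y, hy, e⟩ := htop.ge (mem_top (φ ⟨x, hx⟩))
  rw [hT] at hy
  have h1 : (⟨x, hx⟩ : L) * y⁻¹ ∈ N.subgroupOf L := by
    rw [← QuotientGroup.eq_one_iff]
    show φ (⟨x, hx⟩ * y⁻¹) = 1
    rw [map_mul, map_inv, e, mul_inv_cancel]
  have := mul_mem (mem_sup_left (mem_subgroupOf.1 h1) : _ ∈ N ⊔ P) (mem_sup_right (mem_subgroupOf.1 hy) : _ ∈ N ⊔ P)
  simpa using this

/-- An eigenvector modulo an invariant subgroup gives one of order `p`. -/
theorem exists_eigen {U Z0 : Subgroup G} (hU : IsPGroup p U) (hUc : ∀ x ∈ U, ∀ y ∈ U, x * y = y * x)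
    (hZU : Z0 ≤ U) {t : G} (htU : t ∈ normalizer (U : Set G)) (htZ : t ∈ normalizer (Z0 : Set G))
    {u : G} (hu : u ∈ U) (huZ : u ∉ Z0) {j : ℕ} (hj : t * u * t⁻¹ * (u ^ j)⁻¹ ∈ Z0) :
    ∃ c ∈ U, orderOf c = p ∧ t * c * t⁻¹ = c ^ j := by
  have hconj : ∀ x ∈ U, t * x * t⁻¹ ∈ U := fun x hx => (mem_normalizer_iff.1 htU x).1 hx
  let f : U →* U := MonoidHom.mk'
    (fun x => ⟨t * x * t⁻¹ * ((x : G) ^ j)⁻¹, mul_mem (hconj x x.2) (inv_mem (pow_mem x.2 j))⟩) (by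
    intro x y
    apply Subtype.ext
    have h1 : ((x : G) * y) ^ j = (x : G) ^ j * (y : G) ^ j := (show Commute (x : G) y from hUc _ x.2 _ y.2).mul_pow j
    simp only [coe_mul, h1, _root_.mul_inv_rev]
    have h2 := hUc _ (inv_mem (pow_mem x.2 j) : ((x : G) ^ j)⁻¹ ∈ U) (t * y * t⁻¹ * ((y : G) ^ j)⁻¹)
      (mul_mem (hconj y y.2) (inv_mem (pow_mem y.2 j)))
    calc t * ((x : G) * y) * t⁻¹ * (((y : G) ^ j)⁻¹ * ((x : G) ^ j)⁻¹)
        = t * x * t⁻¹ * (t * y * t⁻¹ * ((y : G) ^ j)⁻¹ * ((x : G) ^ j)⁻¹) := by group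
      _ = _ := by rw [← h2]; group)
  by_cases hinj : Function.Injective f
  · exfalso
    set Zu := Z0.subgroupOf U
    have hres : ∀ z : Zu, f z ∈ Zu := fun z => mem_subgroupOf.2 (by
      have hz := mem_subgroupOf.1 z.2
      exact mul_mem ((mem_normalizer_iff.1 htZ _).1 hz) (inv_mem (pow_mem hz j)))
    have hsurj : Function.Surjective fun z : Zu => (⟨f z, hres z⟩ : Zu) :=
      Finite.injective_iff_surjective.1 fun z z' e => Subtype.ext (hinj (congrArg Subtype.val e))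
    obtain ⟨z, hz⟩ := hsurj ⟨f ⟨u, hu⟩, mem_subgroupOf.2 hj⟩
    have e : (z : U) = ⟨u, hu⟩ := hinj (congrArg Subtype.val hz)
    exact huZ (by simpa [e] using mem_subgroupOf.1 z.2)
  · rw [← MonoidHom.ker_eq_bot_iff] at hinj
    obtain ⟨c, hc, hc0⟩ := (Subgroup.ne_bot_iff_exists_ne_one.1 hinj) |> fun ⟨⟨c, hc⟩, h⟩ =>
      (⟨c, hc, fun e => h (Subtype.ext e)⟩ : ∃ c : U, c ∈ f.ker ∧ c ≠ 1)
    obtain ⟨k, hk⟩ := (IsPGroup.iff_orderOf.1 hU) c
    obtain ⟨k', rfl⟩ : ∃ k', k = k' + 1 := by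
      rcases k with _ | k
      · exact absurd (orderOf_eq_one_iff.1 (by rw [hk, pow_zero])) hc0
      · exact ⟨k, rfl⟩
    set d := c ^ p ^ k'
    have hd : f d = 1 := by rw [map_pow, MonoidHom.mem_ker.1 hc, one_pow]
    have hdo : orderOf d = p := by
      rw [orderOf_pow_of_dvd (by positivity [hp.out.pos]) (by rw [hk, pow_succ]; exact Dvd.intro _ rfl), hk,
        pow_succ, Nat.mul_div_cancel_left _ (by positivity [hp.out.pos])]
    refine ⟨d, d.2, by rw [Subgroup.orderOf_coe, hdo], ?_⟩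
    exact mul_inv_eq_one.1 (congrArg Subtype.val hd)

end CfsgLib.LocalEven.ZJFusion
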