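import Cfsg.Agent.Lib.LocalEven.ZJFusion.Quad

/-!
Either some translate of `V` under `⟨K, g⟩` gives a quadratic element outside `O_p(K)`, or `V` lies in a
subgroup of `O_p(K)` normalised by `K` and `g`.
-/

set_option autoImplicit false

namespace CfsgLib.LocalEven.ZJFusion

open Cfsg Subgroup
open CfsgLib.Fusion (conjSub conj_mem_conjSub conjSub_conjSub conjSub_one conjSub_mono
  conjSub_eq_iff_mem_normalizer)
open CfsgLib.Cores (pCoreIn)
open scoped commutatorElement

variable {G : Type*} [Group G] [Finite G] {p : ℕ} [hp : Fact p.Prime]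

/-- Words of bounded length in `K` and `g`. -/
def words (K : Subgroup G) (g : G) : ℕ → Set G
  | 0 => K
  | i + 1 => words K g i ∪ {w | ∃ k ∈ K, ∃ e : G, (e = g ∨ e = g⁻¹) ∧ ∃ w' ∈ words K g i, w = k * e * w'}

variable {K : Subgroup G} {g : G}

omit [Finite G] in
theorem words_left : ∀ (i : ℕ) {w k : G}, w ∈ words K g i → k ∈ K → k * w ∈ words K g i
  | 0, w, k, hw, hk => mul_mem hk (show w ∈ K from hw)
  | i + 1, w, k, hw, hk => by
    rcases hw with hw | ⟨k', hk', e, he, w', hw', rfl⟩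
    · exact Or.inl (words_left i hw hk)
    · exact Or.inr ⟨k * k', mul_mem hk hk', e, he, w', hw', by group⟩

omit [Finite G] in
theorem words_right : ∀ (i : ℕ) {w k : G}, w ∈ words K g i → k ∈ K → w * k ∈ words K g i
  | 0, w, k, hw, hk => mul_mem (show w ∈ K from hw) hk
  | i + 1, w, k, hw, hk => by
    rcases hw with hw | ⟨k', hk', e, he, w', hw', rfl⟩
    · exact Or.inl (words_right i hw hk)
    · exact Or.inr ⟨k', hk', e, he, w' * k, words_right i hw' hk, by group⟩

omit [Finite G] in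
theorem words_right_step : ∀ (i : ℕ) {w e : G}, w ∈ words K g i → (e = g ∨ e = g⁻¹) →
    w * e ∈ words K g (i + 1)
  | 0, w, e, hw, he => Or.inr ⟨w, hw, e, he, 1, (one_mem K : (1 : G) ∈ K), by group⟩
  | i + 1, w, e, hw, he => by
    rcases hw with hw | ⟨k', hk', e', he', w', hw', rfl⟩
    · exact Or.inl (words_right_step i hw he)
    · exact Or.inr ⟨k', hk', e', he', w' * e, words_right_step i hw' he, by group⟩

omit [Finite G] in
theorem words_inv : ∀ (i : ℕ) {w : G}, w ∈ words K g i → w⁻¹ ∈ words K g i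
  | 0, w, hw => inv_mem (show w ∈ K from hw)
  | i + 1, w, hw => by
    rcases hw with hw | ⟨k', hk', e, he, w', hw', rfl⟩
    · exact Or.inl (words_inv i hw)
    · rw [_root_.mul_inv_rev, _root_.mul_inv_rev, ← mul_assoc]
      refine words_right (i + 1) (words_right_step i (words_inv i hw') ?_) (inv_mem hk')
      rcases he with rfl | rfl
      · exact Or.inr rfl
      · exact Or.inl (inv_inv g)

set_option maxHeartbeats 400000 in
/-- The critical translate. -/
theorem exists_quad_or_invariant {Q V Z0 : Subgroup G} [Z0.Normal] (hQp : IsPGroup p Q) (hQK : Q ≤ K)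
    (hQi : ¬ p ∣ Q.relIndex K) (hVX : V ≤ pCoreIn p K) (hVK : K ≤ normalizer (V : Set G))
    (hVc : ∀ x ∈ V, ∀ y ∈ V, ⁅x, y⁆ ∈ Z0) (hg : g ∈ normalizer (Q : Set G)) :
    (∃ a ∈ Q, a ∉ pCoreIn p K ∧ ∀ v ∈ V, ⁅⁅v, a⁆, a⁆ ∈ Z0) ∨
      ∃ Y : Subgroup G, V ≤ Y ∧ Y ≤ pCoreIn p K ∧ K ≤ normalizer (Y : Set G) ∧
        g ∈ normalizer (Y : Set G) := by
  classical
  set X := pCoreIn p K with hX
  have hXQ : X ≤ Q := pCoreIn_le_sylow hQp hQK hQi
  have hXK : ∀ k ∈ K, conjSub k X = X := fun k hk =>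
    conjSub_eq_iff_mem_normalizer.2 (le_normalizer_pCoreIn K hk)
  by_cases hall : ∀ i, ∀ w ∈ words K g i, conjSub w V ≤ X
  · right
    set Y := ⨆ i, ⨆ w ∈ words K g i, conjSub w V with hY
    have hmem : ∀ i, ∀ w ∈ words K g i, conjSub w V ≤ Y := fun i w hw =>
      le_iSup_of_le i (le_iSup₂_of_le w hw le_rfl)
    have hstab : ∀ x : G, (∀ i, ∀ w ∈ words K g i, ∃ j, x * w ∈ words K g j) →
        x ∈ normalizer (Y : Set G) := by
      intro x hx
      refine conjSub_eq_iff_mem_normalizer.1 (eq_of_le_of_card_ge ?_ (CfsgLib.Fusion.card_conjSub x _).ge)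
      rw [conjSub, hY, Subgroup.map_iSup]
      refine iSup_le fun i => ?_
      rw [Subgroup.map_iSup]
      refine iSup_le fun w => ?_
      rw [Subgroup.map_iSup]
      refine iSup_le fun hw => ?_
      obtain ⟨j, hj⟩ := hx i w hw
      show conjSub x (conjSub w V) ≤ _
      rw [conjSub_conjSub]
      exact hmem j _ hj
    refine ⟨Y, ?_, iSup_le fun i => iSup₂_le fun w hw => hall i w hw, fun k hk => ?_, ?_⟩
    · simpa [conjSub_one] using hmem 0 1 (one_mem K : (1 : G) ∈ K)
    · exact hstab k fun i w hw => ⟨i, words_left i hw hk⟩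
    · exact hstab g fun i w hw => ⟨i + 1, Or.inr ⟨1, one_mem _, g, Or.inl rfl, w, hw, by group⟩⟩
  left
  have hex : ∃ i, ¬ ∀ w ∈ words K g i, conjSub w V ≤ X := by
    by_contra h; push Not at h; exact hall h
  set i := Nat.find hex with hi
  have hspec := Nat.find_spec hex
  rw [← hi] at hspec
  push Not at hspec
  obtain ⟨w, hw, hwX⟩ := hspec
  obtain ⟨i', hi'⟩ : ∃ i', i = i' + 1 := by
    rcases Nat.eq_zero_or_pos i with h0 | h0
    · rw [h0] at hw
      refine absurd ?_ hwX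
      rw [conjSub_eq_iff_mem_normalizer.2 (hVK hw)]
      exact hVX
    · exact ⟨i - 1, (Nat.sub_add_cancel h0).symm⟩
  have hmin : ∀ w ∈ words K g i', conjSub w V ≤ X := by
    have := Nat.find_min hex (show i' < i by omega)
    push Not at this
    exact this
  rw [hi'] at hw
  rcases hw with hw | ⟨k, hk, e, he, w', hw', rfl⟩
  · exact absurd (hmin w hw) hwX
  set z := e * w' with hz
  set U := conjSub z V with hU
  have heQ : e ∈ normalizer (Q : Set G) := by
    rcases he with rfl | rfl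
    · exact hg
    · exact inv_mem hg
  have hUQ : U ≤ Q := by
    rw [hU, hz, ← conjSub_conjSub, ← conjSub_eq_iff_mem_normalizer.2 heQ]
    exact conjSub_mono e ((hmin w' hw').trans hXQ)
  have hUX : ¬ U ≤ X := fun hle => hwX (by
    rw [mul_assoc, ← hz, ← conjSub_conjSub, ← hU, ← hXK k hk]
    exact conjSub_mono k hle)
  obtain ⟨u, huU, huX⟩ := SetLike.not_le_iff_exists.1 hUX
  refine ⟨u, hUQ huU, huX, fun v hv => ?_⟩
  have hzK : conjSub z⁻¹ V ≤ K := by
    have hzw : z⁻¹ ∈ words K g (i' + 1) :=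
      words_inv _ (Or.inr ⟨1, one_mem _, e, he, w', hw', by rw [hz, one_mul]⟩)
    rcases hzw with h | ⟨k', hk', e', he', w'', hw'', e2⟩
    · exact ((hmin _ h).trans hXQ).trans hQK
    · have heQ' : e' ∈ normalizer (Q : Set G) := by
        rcases he' with rfl | rfl
        · exact hg
        · exact inv_mem hg
      rw [e2, mul_assoc, ← conjSub_conjSub, ← conjSub_conjSub]
      refine le_trans (conjSub_mono k' ?_) (conjSub_eq_iff_mem_normalizer.2 (le_normalizer hk')).le
      refine le_trans (conjSub_mono e' ((hmin w'' hw'').trans hXQ)) ?_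
      rw [conjSub_eq_iff_mem_normalizer.2 heQ']
      exact hQK
  -- `v` normalises the translate
  have hvU : ∀ y ∈ U, v * y * v⁻¹ ∈ U := by
    rintro _ ⟨y, hy, rfl⟩
    have hzv : z⁻¹ * v * z ∈ K := by simpa using hzK (conj_mem_conjSub (g := z⁻¹) hv)
    refine ⟨(z⁻¹ * v * z) * y * (z⁻¹ * v * z)⁻¹, (mem_normalizer_iff.1 (hVK hzv) y).1 hy, ?_⟩
    show z * ((z⁻¹ * v * z) * y * (z⁻¹ * v * z)⁻¹) * z⁻¹ = v * (z * y * z⁻¹) * v⁻¹
    group
  have h1 : ⁅v, u⁆ ∈ U := by
    rw [commutatorElement_def]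
    exact U.mul_mem (hvU u huU) (U.inv_mem huU)
  obtain ⟨y, hy, hy'⟩ := h1
  obtain ⟨u', hu', hu''⟩ := huU
  rw [← hy', ← hu'']
  show ⁅z * y * z⁻¹, z * u' * z⁻¹⁆ ∈ Z0
  rw [commutator_conj]
  exact (inferInstance : Z0.Normal).conj_mem _ (hVc y hy u' hu') z

end CfsgLib.LocalEven.ZJFusion
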