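import Cfsg.Prelude.Def_LocalEven
import Cfsg.Agent.Lib.PStab.QdSection

/-!
A subgroup acting on a plane as the Borel subgroup of `SL(2,p)` gives a section `F(p)`.
-/

set_option autoImplicit false

namespace CfsgLib.LocalEven.ZJFusion

open Matrix Cfsg CfsgLib.PStab

variable {p : ℕ} [hp : Fact p.Prime] {G : Type*} [Group G]

/-- `g` acts on the quotient `π` of `Y` as the matrix `A`. -/
def Acts {Y : Subgroup G} (π : Y →* Multiplicative (Fin 2 → ZMod p)) (g : G)
    (A : Matrix.SpecialLinearGroup (Fin 2) (ZMod p)) : Prop :=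
  ∀ y : Y, ∃ h : g * y * g⁻¹ ∈ Y, (π ⟨_, h⟩).toAdd = A.1 *ᵥ (π y).toAdd

variable {Y : Subgroup G} {π : Y →* Multiplicative (Fin 2 → ZMod p)}

theorem Acts.one : Acts π 1 1 := fun y => ⟨by simp, by
  simp [Matrix.SpecialLinearGroup.coe_one]⟩

theorem Acts.mul {g g' : G} {A A' : Matrix.SpecialLinearGroup (Fin 2) (ZMod p)} (h : Acts π g A)
    (h' : Acts π g' A') : Acts π (g * g') (A * A') := by
  intro y
  obtain ⟨h1, e1⟩ := h' y
  obtain ⟨h2, e2⟩ := h ⟨_, h1⟩
  have e : g * g' * y * (g * g')⁻¹ = g * (g' * y * g'⁻¹) * g⁻¹ := by group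
  refine ⟨e ▸ h2, ?_⟩
  rw [Matrix.SpecialLinearGroup.coe_mul, ← Matrix.mulVec_mulVec, ← e1, ← e2]
  congr 2
  exact Subtype.ext e

theorem Acts.pow {g : G} {A : Matrix.SpecialLinearGroup (Fin 2) (ZMod p)} (h : Acts π g A) (n : ℕ) :
    Acts π (g ^ n) (A ^ n) := by
  induction n with
  | zero => simpa using Acts.one
  | succ n ih => rw [pow_succ, pow_succ]; exact ih.mul h

theorem Acts.unique (hπ : Function.Surjective π) {g : G} {A A' : Matrix.SpecialLinearGroup (Fin 2) (ZMod p)}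
    (h : Acts π g A) (h' : Acts π g A') : A = A' := by
  apply Subtype.ext
  apply Matrix.toLin'.injective
  refine LinearMap.ext fun x => ?_
  obtain ⟨y, hy⟩ := hπ (Multiplicative.ofAdd x)
  obtain ⟨h1, e1⟩ := h y
  obtain ⟨_, e2⟩ := h' y
  have := e1.symm.trans e2
  rw [hy, toAdd_ofAdd] at this
  simpa using this

theorem Acts.self (d : Y) : Acts π d 1 := fun y => ⟨Y.mul_mem (Y.mul_mem d.2 y.2) (Y.inv_mem d.2), by
  rw [Matrix.SpecialLinearGroup.coe_one, Matrix.one_mulVec,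
    show (⟨(d : G) * y * (d : G)⁻¹, _⟩ : Y) = d * y * d⁻¹ from rfl]
  congr 1
  rw [map_mul, map_mul, map_inv, mul_comm (π d), mul_inv_cancel_right]⟩

variable [Finite G]

theorem Acts.inv {g : G} {A : Matrix.SpecialLinearGroup (Fin 2) (ZMod p)} (hπ : Function.Surjective π)
    (h : Acts π g A) : Acts π g⁻¹ A⁻¹ := by
  have h1 : A ^ orderOf g = 1 := by
    have := h.pow (orderOf g)
    rw [pow_orderOf_eq_one] at this
    exact this.unique hπ Acts.one
  have hg : g⁻¹ = g ^ (orderOf g - 1) := by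
    rw [eq_comm, eq_inv_iff_mul_eq_one, ← pow_succ, Nat.sub_add_cancel (orderOf_pos g), pow_orderOf_eq_one]
  have hA : A⁻¹ = A ^ (orderOf g - 1) := by
    rw [eq_comm, eq_inv_iff_mul_eq_one, ← pow_succ, Nat.sub_add_cancel (orderOf_pos g), h1]
  rw [hg, hA]
  exact h.pow _

set_option maxHeartbeats 800000 in
/-- The section `F(p)`. -/
theorem involves_fOver_of_data (hp2 : p ≠ 2) {H P : Subgroup G} (hPH : P ≤ H) (hP : IsPGroup p P)
    (hYP : Y ≤ P) {a m : G} (ha : a ∈ P) (hm : m ∈ H) (hmP : m ∈ Subgroup.normalizer (P : Set G))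
    {μ : ZMod p} (hμ : orderOf μ = p - 1) (hπ : Function.Surjective π)
    (hπa : ∀ y : Y, ∃ h : a * y * a⁻¹ ∈ Y, (π ⟨_, h⟩).toAdd = !![1, 1; 0, 1] *ᵥ (π y).toAdd)
    (hπm : ∀ y : Y, ∃ h : m * y * m⁻¹ ∈ Y, (π ⟨_, h⟩).toAdd = !![μ, 0; 0, μ⁻¹] *ᵥ (π y).toAdd) :
    Cfsg.Involves ↥(Cfsg.fOver (ZMod p)) ↥H := by
  classical
  have : NeZero p := ⟨hp.out.ne_zero⟩
  have hp1 : 0 < p - 1 := by have := hp.out.two_le; omega
  have hμ0 : μ ≠ 0 := fun e => by
    have := pow_orderOf_eq_one μ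
    rw [hμ, e, zero_pow hp1.ne'] at this
    exact zero_ne_one this
  have h2 : (2 : ZMod p) ≠ 0 := fun e => hp2 <| by
    have h' : ((2 : ℕ) : ZMod p) = 0 := by exact_mod_cast e
    rw [CharP.cast_eq_zero_iff (ZMod p) p] at h'
    exact (Nat.prime_dvd_prime_iff_eq hp.out Nat.prime_two).1 h'
  let U : Matrix.SpecialLinearGroup (Fin 2) (ZMod p) := ⟨!![1, 1; 0, 1], by simp [Matrix.det_fin_two]⟩
  let D : Matrix.SpecialLinearGroup (Fin 2) (ZMod p) :=
    ⟨!![μ, 0; 0, μ⁻¹], by rw [Matrix.det_fin_two_of, mul_inv_cancel₀ hμ0]; ring⟩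
  have hUa : Acts π a U := hπa
  have hDm : Acts π m D := hπm
  have hDpow : ∀ k : ℕ, (D ^ k).1 = !![μ ^ k, 0; 0, μ⁻¹ ^ k] := fun k => by
    induction k with
    | zero => simp [Matrix.one_fin_two]
    | succ k ih => rw [pow_succ, Matrix.SpecialLinearGroup.coe_mul, ih]; simp [D, pow_succ]
  have hUpow : ∀ k : ℕ, (U ^ k).1 = !![(1 : ZMod p), (k : ZMod p); 0, 1] := fun k => by
    induction k with
    | zero => simp [Matrix.one_fin_two]
    | succ k ih => rw [pow_succ, Matrix.SpecialLinearGroup.coe_mul, ih]; simp [U, add_comm]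
  -- the element acting as minus one
  obtain ⟨f, o, ho, hn⟩ := Nat.exists_eq_two_pow_mul_odd (n := orderOf m) (orderOf_pos m).ne'
  have hμn : μ ^ orderOf m = 1 := by
    have := hDm.pow (orderOf m)
    rw [pow_orderOf_eq_one] at this
    have e := congrArg (fun M : Matrix.SpecialLinearGroup (Fin 2) (ZMod p) => M.1 0 0) (this.unique hπ Acts.one)
    simpa [hDpow] using e
  obtain ⟨i, -, hi⟩ := (Nat.dvd_prime_pow Nat.prime_two).1
    (orderOf_dvd_of_pow_eq_one (x := μ ^ o) (n := 2 ^ f) (by rw [← pow_mul, mul_comm, ← hn, hμn]))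
  have hi0 : i ≠ 0 := fun e => by
    rw [e, pow_zero, orderOf_eq_one_iff] at hi
    have := orderOf_dvd_of_pow_eq_one hi
    rw [hμ] at this
    have heven : Even (p - 1) := (hp.out.odd_of_ne_two hp2).tsub_odd odd_one
    exact (Nat.not_even_iff_odd.2 ho) (heven.trans_dvd this)
  set k0 := o * 2 ^ (i - 1) with hk0
  have hneg : μ ^ k0 = -1 := by
    have h1 : (μ ^ k0) ^ 2 = 1 := by
      rw [← pow_mul, hk0, mul_assoc, ← pow_succ, Nat.sub_add_cancel (Nat.pos_of_ne_zero hi0), pow_mul, ← hi,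
        pow_orderOf_eq_one]
    refine (sq_eq_one_iff.1 h1).resolve_left fun e => ?_
    rw [hk0, pow_mul] at e
    have := orderOf_dvd_of_pow_eq_one e
    rw [hi, Nat.pow_dvd_pow_iff_le_right (by norm_num : 1 < 2)] at this
    omega
  set s := m ^ k0 with hs
  have hD0 : (D ^ k0).1 = -1 := by
    rw [hDpow, inv_pow, hneg]
    ext r c; fin_cases r <;> fin_cases c <;> simp
  have hDs : Acts π s (D ^ k0) := hDm.pow k0
  have hs2 : s ^ 2 ^ f = 1 := by
    rw [hs, ← pow_mul, hk0, mul_right_comm, mul_comm o, ← hn, pow_mul, pow_orderOf_eq_one, one_pow]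
  -- a transvection commuting with `s`
  let Y1 : Subgroup G :=
    { carrier := {x | x ∈ P ∧ Acts π x 1}
      one_mem' := ⟨P.one_mem, Acts.one⟩
      mul_mem' := fun hx hy => ⟨P.mul_mem hx.1 hy.1, by simpa using hx.2.mul hy.2⟩
      inv_mem' := fun hx => ⟨P.inv_mem hx.1, by simpa using hx.2.inv hπ⟩ }
  let 𝒜 := {x : G // x ∈ P ∧ Acts π x U}
  have hA : Nat.card 𝒜 = Nat.card Y1 := Nat.card_congr
    { toFun := fun x => ⟨a⁻¹ * x.1, P.mul_mem (P.inv_mem ha) x.2.1, by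
        simpa using (hUa.inv hπ).mul x.2.2⟩
      invFun := fun x => ⟨a * x.1, P.mul_mem ha x.2.1, by simpa using hUa.mul x.2.2⟩
      left_inv := fun x => Subtype.ext (by simp)
      right_inv := fun x => Subtype.ext (by simp) }
  have hodd : ¬ 2 ∣ Nat.card 𝒜 := by
    obtain ⟨j, hj⟩ := IsPGroup.iff_card.1 (hP.to_le (show Y1 ≤ P from fun x hx => hx.1))
    rw [hA, hj]
    intro h
    exact hp2 ((Nat.prime_dvd_prime_iff_eq Nat.prime_two hp.out).1 (Nat.prime_two.dvd_of_dvd_pow h)).symm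
  set Z := Subgroup.zpowers s with hZ
  have hpres : ∀ g : Z, ∀ x : 𝒜, (g : G) * x.1 * (g : G)⁻¹ ∈ P ∧ Acts π ((g : G) * x.1 * (g : G)⁻¹) U := by
    rintro ⟨g, hg⟩ x
    obtain ⟨j, rfl⟩ := (mem_powers_iff_mem_zpowers.2 hg : g ∈ Submonoid.powers s)
    have hsP : s ∈ Subgroup.normalizer (P : Set G) := pow_mem hmP k0
    refine ⟨(Subgroup.mem_normalizer_iff.1 (pow_mem hsP j) _).1 x.2.1, ?_⟩
    have hj := hDs.pow j
    have hc : (D ^ k0) ^ j * U * ((D ^ k0) ^ j)⁻¹ = U := by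
      have : Commute (D ^ k0) U := Subtype.ext (by
        rw [Matrix.SpecialLinearGroup.coe_mul, Matrix.SpecialLinearGroup.coe_mul, hD0]; simp)
      rw [(this.pow_left j).eq, mul_inv_cancel_right]
    have h3 := (hj.mul x.2.2).mul (hj.inv hπ)
    rwa [hc] at h3
  let act : MulAction Z 𝒜 :=
    { smul := fun g x => ⟨(g : G) * x.1 * (g : G)⁻¹, hpres g x⟩
      one_smul := fun x => Subtype.ext (by show (1 : G) * x.1 * (1 : G)⁻¹ = x.1; group)
      mul_smul := fun g g' x => Subtype.ext (by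
        show ((g * g' : Z) : G) * x.1 * ((g * g' : Z) : G)⁻¹ = (g : G) * ((g' : G) * x.1 * (g' : G)⁻¹) * (g : G)⁻¹
        simp only [Subgroup.coe_mul]; group) }
  have hZ2 : IsPGroup 2 Z := by
    rintro ⟨g, hg⟩
    obtain ⟨j, rfl⟩ := hg
    refine ⟨f, Subtype.ext ?_⟩
    rw [SubmonoidClass.coe_pow, ← zpow_natCast, ← _root_.zpow_mul, mul_comm, _root_.zpow_mul, zpow_natCast, hs2, _root_.one_zpow]
    rfl
  obtain ⟨x, hx⟩ := hZ2.nonempty_fixed_point_of_prime_not_dvd_card 𝒜 hodd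
  obtain ⟨a1, ha1P, ha1⟩ := x
  have hcomm : s * a1 = a1 * s := by
    have := congrArg Subtype.val (hx ⟨s, Subgroup.mem_zpowers s⟩)
    exact mul_inv_eq_iff_eq_mul.1 this
  -- the complement
  set T0 := Subgroup.closure ({a1, m} : Set G) with hT0
  have hT : ∀ c ∈ T0, c * s = s * c ∧ c ∈ H ∧
      ∃ A : Matrix.SpecialLinearGroup (Fin 2) (ZMod p), A.1 1 0 = 0 ∧ Acts π c A := by
    intro c hc
    induction hc using Subgroup.closure_induction with
    | mem c hc =>
      rcases hc with rfl | rfl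
      · exact ⟨hcomm.symm, hPH ha1P, U, by simp [U], ha1⟩
      · exact ⟨(Commute.self_pow c k0).eq, hm, D, by simp [D], hDm⟩
    | one => exact ⟨by simp, H.one_mem, 1, by simp, Acts.one⟩
    | mul c c' _ _ h h' =>
      obtain ⟨e, hH, A, hA0, hAc⟩ := h
      obtain ⟨e', hH', A', hA0', hAc'⟩ := h'
      exact ⟨by rw [mul_assoc, e', ← mul_assoc, e, mul_assoc], H.mul_mem hH hH', A * A', by
        simp [Matrix.mul_apply, Fin.sum_univ_two, hA0, hA0'], hAc.mul hAc'⟩
    | inv c _ h =>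
      obtain ⟨e, hH, A, hA0, hAc⟩ := h
      exact ⟨((show Commute c s from e).inv_left).eq, H.inv_mem hH, A⁻¹, by
        rw [Matrix.SpecialLinearGroup.SL2_inv_expl]; simp [hA0], hAc.inv hπ⟩
  have hT0Y : T0 ≤ Subgroup.normalizer (Y : Set G) := fun c hc => by
    obtain ⟨-, -, A, -, hA⟩ := hT c hc
    exact CfsgLib.Solvable.mem_normalizer_of_conj_mem fun y hy => (hA ⟨y, hy⟩).1
  set L := T0 ⊔ Y with hL
  have hdec : ∀ l : L, ∃ y : Y, ∃ c : T0, (l : G) = y * c := by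
    rintro ⟨l, hl⟩
    rw [hL, sup_comm] at hl
    obtain ⟨y, hy, c, hc, e⟩ := CfsgLib.Solvable.exists_mul_of_mem_sup hT0Y hl
    exact ⟨⟨y, hy⟩, ⟨c, hc⟩, e⟩
  have hex : ∀ c : T0, ∃ A : Matrix.SpecialLinearGroup (Fin 2) (ZMod p), A.1 1 0 = 0 ∧ Acts π (c : G) A :=
    fun c => (hT c c.2).2.2
  choose Af hAf0 hAf using hex
  have hwd : ∀ (y y' : Y) (c c' : T0), (y : G) * c = y' * c' → π y = π y' ∧ Af c = Af c' := by
    intro y y' c c' e
    set d : Y := y'⁻¹ * y with hd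
    have e1 : (c' : G) = (d : G) * c := by
      rw [hd, Subgroup.coe_mul, Subgroup.coe_inv, mul_assoc, e, inv_mul_cancel_left]
    have hds : (d : G) * s = s * d := by
      have e2 : (d : G) = c' * (c : G)⁻¹ := by rw [e1, mul_inv_cancel_right]
      rw [e2]
      exact (Commute.mul_left (hT c' c'.2).1 (show Commute (c : G) s from (hT c c.2).1).inv_left).eq
    have hd0 : π d = 1 := by
      obtain ⟨h, e3⟩ := hDs d
      have : (⟨s * d * s⁻¹, h⟩ : Y) = d := Subtype.ext (by show s * (d : G) * s⁻¹ = d; rw [← hds, mul_inv_cancel_right])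
      rw [this, hD0, Matrix.neg_mulVec, Matrix.one_mulVec] at e3
      have h4 : (2 : ZMod p) • (π d).toAdd = 0 := by rw [two_smul]; nth_rewrite 1 [e3]; simp
      exact toAdd_eq_zero.1 ((smul_eq_zero.1 h4).resolve_left h2)
    refine ⟨?_, ?_⟩
    · have e3 : y = y' * d := by rw [hd, mul_inv_cancel_left]
      rw [e3, map_mul, hd0, mul_one]
    · have := (Acts.self (π := π) d).mul (hAf c)
      rw [← e1, one_mul] at this
      exact this.unique hπ (hAf c')
  choose yf cf hyc using hdec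
  let f0 : L →* Matrix.SpecialLinearGroup (Fin 3) (ZMod p) :=
    MonoidHom.mk' (fun l => affMat (Af (cf l)) (π (yf l)).toAdd) (by
      intro l l'
      rw [affMat_mul]
      obtain ⟨h, e⟩ := hAf (cf l) (yf l')
      obtain ⟨e1, e2⟩ := hwd (yf (l * l')) (yf l * ⟨_, h⟩) (cf (l * l')) (cf l * cf l') (by
        rw [← hyc, Subgroup.coe_mul, hyc l, hyc l', Subgroup.coe_mul, Subgroup.coe_mul]
        group)
      have e3 : Af (cf l * cf l') = Af (cf l) * Af (cf l') :=
        (hAf _).unique hπ ((hAf (cf l)).mul (hAf (cf l')))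
      rw [e1, e2, e3, map_mul, toAdd_mul, e, add_comm])
  have hf0 : ∀ (l : L) (y : Y) (c : T0), (l : G) = y * c → f0 l = affMat (Af c) (π y).toAdd := by
    intro l y c e
    obtain ⟨e1, e2⟩ := hwd (yf l) y (cf l) c ((hyc l).symm.trans e)
    show affMat _ _ = _
    rw [e1, e2]
  have haff : ∀ (A : Matrix.SpecialLinearGroup (Fin 2) (ZMod p)) (x : Fin 2 → ZMod p), A.1 1 0 = 0 →
      affMat A x ∈ Cfsg.fOver (ZMod p) := fun A x hA0 => Subgroup.subset_closure (by
    show _ ∧ _ ∧ _ ∧ _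
    simp [affMat_coe, hA0])
  let f1 : L →* Cfsg.fOver (ZMod p) := f0.codRestrict _ fun l => haff _ _ (hAf0 _)
  have hsurj : Function.Surjective f1 := by
    have hle : Cfsg.fOver (ZMod p) ≤ f0.range := by
      rw [Cfsg.fOver, Subgroup.closure_le]
      rintro M ⟨h10, h20, h21, h22⟩
      have hd := M.det_coe
      rw [Matrix.det_fin_three, h10, h20, h21, h22] at hd
      have hd' : M.1 0 0 * M.1 1 1 = 1 := by linear_combination hd
      have hM0 : M.1 0 0 ≠ 0 := left_ne_zero_of_mul_eq_one hd'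
      -- the diagonal is a power of `μ`
      obtain ⟨i, hi⟩ : ∃ i : ℕ, μ ^ i = M.1 0 0 := by
        have hu : orderOf (Units.mk0 μ hμ0) = Nat.card (ZMod p)ˣ := by
          rw [← orderOf_units, Units.val_mk0, hμ, Nat.card_eq_fintype_card, ZMod.card_units]
        have htop : Subgroup.zpowers (Units.mk0 μ hμ0) = ⊤ :=
          Subgroup.eq_top_of_card_eq _ (by rw [Nat.card_zpowers, hu])
        obtain ⟨i, hi⟩ := mem_powers_iff_mem_zpowers.2 (htop.ge (Subgroup.mem_top (Units.mk0 _ hM0)))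
        exact ⟨i, by simpa using congrArg Units.val hi⟩
      set j := (M.1 0 1 * (M.1 0 0)⁻¹).val with hj
      have hm1 : m ∈ T0 := Subgroup.subset_closure (Or.inr rfl)
      have ha1T : a1 ∈ T0 := Subgroup.subset_closure (Or.inl rfl)
      set c : T0 := ⟨m ^ i * a1 ^ j, mul_mem (pow_mem hm1 i) (pow_mem ha1T j)⟩ with hc
      obtain ⟨y, hy⟩ := hπ (Multiplicative.ofAdd ![M.1 0 2, M.1 1 2])
      have hlm : (y : G) * c ∈ L := mul_mem (Subgroup.mem_sup_right y.2) (Subgroup.mem_sup_left c.2)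
      refine ⟨⟨_, hlm⟩, ?_⟩
      rw [hf0 ⟨_, hlm⟩ y c rfl, hy, toAdd_ofAdd,
        (hAf c).unique hπ ((hDm.pow i).mul (ha1.pow j))]
      apply Subtype.ext
      rw [affMat_coe, Matrix.SpecialLinearGroup.coe_mul, hDpow, hUpow, hj, ZMod.natCast_rightInverse,
        inv_pow, hi]
      ext r q
      have e11 : (M.1 0 0)⁻¹ = M.1 1 1 := (eq_inv_of_mul_eq_one_right hd').symm
      fin_cases r <;> fin_cases q <;>
        simp [h10, h20, h21, h22, e11] <;>
        linear_combination (M.1 0 1) * hd'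
    rintro ⟨M, hM⟩
    obtain ⟨l, hl⟩ := hle hM
    exact ⟨l, Subtype.ext hl⟩
  have hLH : L ≤ H := sup_le (fun c hc => (hT c hc).2.1) (hYP.trans hPH)
  exact involves_of_surjective (S := L.subgroupOf H)
    (f := f1.comp (Subgroup.subgroupOfEquivOfLe hLH).toMonoidHom)
    (hsurj.comp (Subgroup.subgroupOfEquivOfLe hLH).surjective)

end CfsgLib.LocalEven.ZJFusion
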