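import Cfsg.Agent.Lib.LocalEven.ZJFusion.Main
import Cfsg.Agent.Lib.PStab.Fusion

/-!
Fusion failure for `Z(J(S))`, in the form of the frozen definitions.
-/

set_option autoImplicit false

namespace CfsgLib.LocalEven.ZJFusion

open Cfsg Subgroup
open CfsgLib.PStab

universe u

variable {G : Type u} [Group G] [Finite G] {p : ℕ} [hp : Fact p.Prime]

/-- Either `N(Z(J(S)))` controls strong fusion, or the structure appears. -/
theorem struct_of_not_controls (hp2 : p ≠ 2) (S : Sylow p G)
    (h : ¬ Cfsg.ControlsStrongFusion p (Cfsg.centerThompsonAOf (S : Subgroup G))) :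
    Struct p (Cfsg.centerThompsonAOf (S : Subgroup G)) := by
  rw [centerThompsonAOf_eq_zjGen] at h ⊢
  by_contra hns
  exact h ⟨S, zjGen_le 0 _, fun A hA => controlsStrongFusionOf_of_control S
    (control_or_struct hp2 (Nat.card G) S le_rfl hns) A hA⟩

theorem mem_normalizer_zpowers {c g : G} (h : g * c * g⁻¹ ∈ zpowers c) : g ∈ normalizer (zpowers c : Set G) := by
  refine CfsgLib.Fusion.conjSub_eq_iff_mem_normalizer.1 (eq_of_le_of_card_ge ?_ (CfsgLib.Fusion.card_conjSub g _).ge)
  rw [CfsgLib.Fusion.conjSub, MonoidHom.map_zpowers]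
  exact zpowers_le.2 h

/-- A cyclic subgroup of prime order with full automiser. -/
theorem relIndex_eq_of_conj_eq_pow {H : Subgroup G} {c m : G} (hco : orderOf c = p) (hm : m ∈ H)
    {j : ℕ} (hj : orderOf (j : ZMod p) = p - 1) (hmc : m * c * m⁻¹ = c ^ j) :
    (H ⊓ centralizer (zpowers c : Set G)).relIndex (H ⊓ normalizer (zpowers c : Set G)) = p - 1 := by
  set C := zpowers c with hC
  have hCc : Nat.card C = p := by rw [hC, Nat.card_zpowers, hco]
  let φ : ↥(H ⊓ normalizer (C : Set G)) →* MulAut C :=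
    C.normalizerMonoidHom.comp (inclusion inf_le_right)
  have hker : φ.ker = (H ⊓ centralizer (C : Set G)).subgroupOf (H ⊓ normalizer (C : Set G)) := by
    ext x
    rw [MonoidHom.mem_ker, mem_subgroupOf]
    change C.normalizerMonoidHom (inclusion inf_le_right x) = 1 ↔ _
    rw [← MonoidHom.mem_ker, normalizerMonoidHom_ker, mem_subgroupOf]
    exact ⟨fun hx => ⟨x.2.1, hx⟩, fun hx => hx.2⟩
  rw [relIndex, ← hker, index_ker]
  have : IsCyclic C := isCyclic_of_prime_card hCc
  have hcard : Nat.card (MulAut C) = p - 1 := by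
    rw [IsCyclic.card_mulAut, hCc, Nat.totient_prime hp.out]
  refine Nat.dvd_antisymm (hcard ▸ card_subgroup_dvd_card _) ?_
  have hmN : m ∈ normalizer (C : Set G) := by
    refine CfsgLib.LocalEven.ZJFusion.mem_normalizer_zpowers ?_
    rw [hmc]; exact pow_mem (mem_zpowers c) j
  let m' : ↥(H ⊓ normalizer (C : Set G)) := ⟨m, hm, hmN⟩
  have hiter : ∀ i : ℕ, m ^ i * c * (m ^ i)⁻¹ = c ^ j ^ i := by
    intro i
    induction i with
    | zero => simp
    | succ i ih =>
      calc m ^ (i + 1) * c * (m ^ (i + 1))⁻¹ = m * (m ^ i * c * (m ^ i)⁻¹) * m⁻¹ := by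
            rw [pow_succ']; group
        _ = (m * c * m⁻¹) ^ j ^ i := by rw [ih, conj_pow]
        _ = _ := by rw [hmc, ← pow_mul, pow_succ']
  have hdvd : p - 1 ∣ orderOf (φ m') := by
    rw [← hj, orderOf_dvd_iff_pow_eq_one, ← Nat.cast_pow, ← Nat.cast_one, ZMod.natCast_eq_natCast_iff,
      ← hco, ← pow_eq_pow_iff_modEq, pow_one]
    have h1 : φ (m' ^ orderOf (φ m')) = 1 := by rw [map_pow, pow_orderOf_eq_one]
    have h2 := congrArg Subtype.val (DFunLike.congr_fun h1 ⟨c, mem_zpowers c⟩)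
    rw [← hiter]
    exact h2
  refine hdvd.trans ?_
  have h3 : orderOf (⟨φ m', m', rfl⟩ : φ.range) ∣ Nat.card φ.range := orderOf_dvd_natCard _
  rwa [← Subgroup.orderOf_coe] at h3

end CfsgLib.LocalEven.ZJFusion
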