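import Cfsg.Agent.Lib.LocalEven.ZJFusion.Final
import Cfsg.Agent.Lib.FGS.RealCentral

/-!
Normal Sylow 2-subgroups detected in the normalisers of `Z(J(T))`.
-/

set_option autoImplicit false

namespace CfsgLib.LocalEven.ZJFusion

open Cfsg Subgroup
open CfsgLib.PStab

variable {G : Type*} [Group G] [Finite G]

/-- A normal 2-subgroup of odd index is the Sylow 2-subgroup. -/
theorem sylow_two_normal_of_oddIndex {N : Subgroup G} (hN : N.Normal) (h2 : IsPGroup 2 N)
    (hodd : Odd N.index) (P : Sylow 2 G) : (P : Subgroup G).Normal := by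
  haveI : Fact (Nat.Prime 2) := ⟨Nat.prime_two⟩
  let Q : Sylow 2 G := IsPGroup.toSylow h2 (fun hd => (Nat.not_even_iff_odd.2 hodd) (even_iff_two_dvd.2 hd))
  have : Subsingleton (Sylow 2 G) := by
    have : (Q : Subgroup G).Normal := by rw [IsPGroup.toSylow_coe]; exact hN
    exact (Sylow.unique_of_normal Q this).instSubsingleton
  rw [Subsingleton.elim P Q, IsPGroup.toSylow_coe]
  exact hN

/-- A normal Sylow 2-subgroup gives one of odd index. -/
theorem oddIndex_of_sylow_two_normal (h : ∀ P : Sylow 2 G, (P : Subgroup G).Normal) :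
    ∃ N : Subgroup G, N.Normal ∧ IsPGroup 2 N ∧ Odd N.index := by
  haveI : Fact (Nat.Prime 2) := ⟨Nat.prime_two⟩
  obtain ⟨P⟩ : Nonempty (Sylow 2 G) := inferInstance
  exact ⟨P, h P, P.2, Nat.not_even_iff_odd.1 fun he => P.not_dvd_index (even_iff_two_dvd.1 he)⟩

/-- With a normal Sylow 2-subgroup no odd element but the identity is real. -/
theorem eq_one_of_inverted {N : Subgroup G} (hN : N.Normal) (h2 : IsPGroup 2 N) (hodd : Odd N.index)
    {x g : G} (hx : Odd (orderOf x)) (hg : g * x * g⁻¹ = x⁻¹) : x = 1 := by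
  obtain ⟨k, hk⟩ := hodd
  have hu : g ^ N.index ∈ N := by
    rw [← QuotientGroup.eq_one_iff]
    show QuotientGroup.mk' N (g ^ N.index) = 1
    rw [map_pow, index_eq_card, pow_card_eq_one']
  have hc : ∀ i : ℕ, g ^ (2 * i + 1) * x * (g ^ (2 * i + 1))⁻¹ = x⁻¹ := by
    intro i
    induction i with
    | zero => simpa using hg
    | succ i ih =>
      calc g ^ (2 * (i + 1) + 1) * x * (g ^ (2 * (i + 1) + 1))⁻¹
          = g * (g * (g ^ (2 * i + 1) * x * (g ^ (2 * i + 1))⁻¹) * g⁻¹) * g⁻¹ := by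
            rw [show 2 * (i + 1) + 1 = 1 + (1 + (2 * i + 1)) by ring, pow_add g 1, pow_add g 1, pow_one]
            group
        _ = g * (g * x⁻¹ * g⁻¹) * g⁻¹ := by rw [ih]
        _ = x⁻¹ := by
            rw [show g * x⁻¹ * g⁻¹ = (g * x * g⁻¹)⁻¹ by group, hg, inv_inv, hg]
  have hx2 : x ^ 2 ∈ N := by
    have e := hc k
    rw [← hk] at e
    have h1 : g ^ N.index * x * (g ^ N.index)⁻¹ * x⁻¹ ∈ N := by
      have := hN.conj_mem _ (inv_mem hu) x
      simpa [mul_assoc] using mul_mem hu this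
    rw [e] at h1
    have := inv_mem h1
    simpa [pow_two, mul_inv_rev] using this
  obtain ⟨a, ha⟩ := h2 ⟨_, hx2⟩
  have h3 : x ^ (2 * 2 ^ a) = 1 := by
    have := congrArg Subtype.val ha
    simpa [← pow_mul] using this
  rw [← orderOf_eq_one_iff]
  refine Nat.eq_one_of_dvd_coprimes ?_ dvd_rfl (orderOf_dvd_of_pow_eq_one h3)
  rw [← pow_succ']
  exact Nat.Coprime.pow_right _ (Nat.coprime_two_right.2 hx)

theorem odd_orderOf_of_pGroup {q : ℕ} [hq : Fact q.Prime] (hq2 : q ≠ 2) {T : Subgroup G} (hT : IsPGroup q T)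
    {x : G} (hx : x ∈ T) : Odd (orderOf x) := by
  obtain ⟨k, hk⟩ := (IsPGroup.iff_orderOf.1 hT) ⟨x, hx⟩
  rw [orderOf_mk] at hk
  rw [hk]
  exact (hq.out.odd_of_ne_two hq2).pow

theorem noneReal_of_normalizer {N : Subgroup G} (h : ∀ P : Sylow 2 ↥N, (P : Subgroup ↥N).Normal)
    {q : ℕ} [Fact q.Prime] (hq2 : q ≠ 2) {T : Subgroup G} (hT : IsPGroup q T) (hTN : T ≤ N)
    {x g : G} (hx : x ∈ T) (hg : g ∈ N) (he : g * x * g⁻¹ = x⁻¹) : x = 1 := by
  obtain ⟨M, hM, hM2, hMo⟩ := oddIndex_of_sylow_two_normal h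
  have := eq_one_of_inverted hM hM2 hMo (x := ⟨x, hTN hx⟩) (g := ⟨g, hg⟩)
    (by rw [orderOf_mk]; exact odd_orderOf_of_pGroup hq2 hT hx) (Subtype.ext he)
  exact congrArg Subtype.val this

universe u

/-- The equivalences. -/
theorem normal_sylow_two_of_noneReal {G : Type u} [Group G] [Finite G]
    (h : ∀ (q : ℕ) [Fact q.Prime], q ≠ 2 → ∀ T : Sylow q G, ∀ x ∈ (T : Subgroup G), x ≠ 1 →
      ∀ g ∈ normalizer (Cfsg.centerThompsonAOf (T : Subgroup G) : Set G), g * x * g⁻¹ ≠ x⁻¹) :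
    ∀ P : Sylow 2 G, (P : Subgroup G).Normal := by
  obtain ⟨N, hN, hN2, hNo⟩ := CfsgLib.FGS.RealCentral.exists_twoGroup_odd_index (G := G) fun q x s a hq hodd hxo _ hinv => by
    haveI := Fact.mk hq
    have hq2 : q ≠ 2 := fun e => by rw [e] at hodd; exact absurd hodd (by decide)
    have hx1 : x ≠ 1 := fun e => hq.one_lt.ne' (by rw [← hxo, e, orderOf_one])
    obtain ⟨T, hT⟩ := (IsPGroup.of_card (n := 1) (by rw [Nat.card_zpowers, hxo, pow_one]) :
      IsPGroup q (zpowers x)).exists_le_sylow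
    have hxT : x ∈ (T : Subgroup G) := hT (mem_zpowers x)
    have hW := centerThompsonAOf_eq_zjGen (T : Subgroup G)
    by_cases hs : Struct q (zjGen 0 (T : Subgroup G))
    · obtain ⟨-, c, hc, hco, j, hj, m, hm, hmc⟩ := hs
      have hiter : ∀ i : ℕ, m ^ i * c * (m ^ i)⁻¹ = c ^ j ^ i := by
        intro i
        induction i with
        | zero => simp
        | succ i ih =>
          calc m ^ (i + 1) * c * (m ^ (i + 1))⁻¹ = m * (m ^ i * c * (m ^ i)⁻¹) * m⁻¹ := by
                rw [pow_succ']; group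
            _ = (m * c * m⁻¹) ^ j ^ i := by rw [ih, conj_pow]
            _ = _ := by rw [hmc, ← pow_mul, pow_succ']
      obtain ⟨d, hd⟩ : ∃ d, q - 1 = 2 * d := by
        obtain ⟨d, hd⟩ := hodd
        exact ⟨d, by omega⟩
      have hjd : ((j : ZMod q)) ^ d = -1 := by
        have h1 : ((j : ZMod q) ^ d) ^ 2 = 1 := by
          rw [← pow_mul, mul_comm, ← hd, ← hj, pow_orderOf_eq_one]
        refine (sq_eq_one_iff.1 h1).resolve_left fun e => ?_
        have hd0 : 0 < d := by
          rcases Nat.eq_zero_or_pos d with rfl | h0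
          · have := hq.two_le; omega
          · exact h0
        have := Nat.le_of_dvd hd0 (orderOf_dvd_of_pow_eq_one e)
        omega
      refine h q hq2 T c (zjGen_le 0 _ hc) (fun e => hq.one_lt.ne' (by rw [← hco, e, orderOf_one]))
        (m ^ d) (by rw [hW]; exact pow_mem hm d) ?_
      rw [hiter, eq_inv_iff_mul_eq_one, ← pow_succ, ← orderOf_dvd_iff_pow_eq_one, hco,
        ← ZMod.natCast_eq_zero_iff]
      push_cast
      rw [hjd]; ring
    · obtain ⟨m, hm, hag⟩ := control_or_struct hq2 (Nat.card G) T le_rfl hs (zpowers x) s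
        (zpowers_le.2 hxT) (by
          rw [CfsgLib.Fusion.conjSub, MonoidHom.map_zpowers]
          refine zpowers_le.2 ?_
          show s * x * s⁻¹ ∈ (T : Subgroup G)
          rw [hinv]; exact inv_mem hxT)
      exact h q hq2 T x hxT hx1 m (hW ▸ hm) ((hag x (mem_zpowers x)).trans hinv)
  exact sylow_two_normal_of_oddIndex hN hN2 hNo

end CfsgLib.LocalEven.ZJFusion
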