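import Cfsg.Agent.Lib.PStab.Dickson

/-!
A finite group of 2×2 matrices containing two opposite transvections has an upper triangular element
with diagonal generating the multiplicative group of the prime field.
-/

set_option autoImplicit false

namespace CfsgLib.LocalEven.ZJFusion

open Matrix CfsgLib.PStab.Dickson
open scoped LinearAlgebra.Projectivization

variable {p : ℕ} [hp : Fact p.Prime]

local notation "KK" => AlgebraicClosure (ZMod p)
local notation "SS" => Matrix.SpecialLinearGroup (Fin 2) (AlgebraicClosure (ZMod p))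

/-- Roots of `x ^ (p-1) = 1` lie in the prime field. -/
theorem exists_algebraMap_eq {x : KK} (hx : x ^ (p - 1) = 1) :
    ∃ μ : ZMod p, algebraMap (ZMod p) KK μ = x := by
  classical
  have : NeZero p := ⟨hp.out.ne_zero⟩
  have hp1 : 0 < p - 1 := by have := hp.out.two_le; omega
  set T := ((Finset.univ : Finset (ZMod p)).erase 0).image (algebraMap (ZMod p) KK) with hT
  have hsub : T ⊆ (Polynomial.nthRoots (p - 1) (1 : KK)).toFinset := by
    intro y hy
    obtain ⟨μ, hμ, rfl⟩ := Finset.mem_image.1 hy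
    rw [Multiset.mem_toFinset, Polynomial.mem_nthRoots hp1, ← map_pow,
      ZMod.pow_card_sub_one_eq_one (Finset.mem_erase.1 hμ).1, map_one]
  have hcard : T.card = p - 1 := by
    rw [hT, Finset.card_image_of_injective _ (algebraMap (ZMod p) KK).injective,
      Finset.card_erase_of_mem (Finset.mem_univ _), Finset.card_univ, ZMod.card]
  have hle : (Polynomial.nthRoots (p - 1) (1 : KK)).toFinset.card ≤ T.card := by
    rw [hcard]
    exact (Multiset.toFinset_card_le _).trans (Polynomial.card_nthRoots _ _)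
  have hxT : x ∈ T := by
    rw [Finset.eq_of_subset_of_card_le hsub hle, Multiset.mem_toFinset, Polynomial.mem_nthRoots hp1]
    exact hx
  obtain ⟨μ, -, hμ⟩ := Finset.mem_image.1 hxT
  exact ⟨μ, hμ⟩

theorem diag_pow {r : SS} (h10 : r.1 1 0 = 0) (k : ℕ) :
    (r ^ k : SS).1 1 0 = 0 ∧ (r ^ k : SS).1 0 0 = r.1 0 0 ^ k ∧ (r ^ k : SS).1 1 1 = r.1 1 1 ^ k := by
  induction k with
  | zero => simp
  | succ k ih =>
    obtain ⟨i1, i2, i3⟩ := ih
    simp only [pow_succ, Matrix.SpecialLinearGroup.coe_mul, Matrix.mul_apply, Fin.sum_univ_two]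
    refine ⟨?_, ?_, ?_⟩
    · rw [i1, h10]; ring
    · rw [i2, h10]; ring
    · rw [i3, i1]; ring

theorem unipotent_pow {r : SS} (h00 : r.1 0 0 = 1) (h10 : r.1 1 0 = 0) (h11 : r.1 1 1 = 1) :
    r = uu (r.1 0 1) ∧ r ^ p = 1 := by
  have e : r = uu (r.1 0 1) := by
    apply Subtype.ext
    rw [uu_coe]
    ext i j
    fin_cases i <;> fin_cases j <;> simp [h00, h10, h11]
  refine ⟨e, ?_⟩
  rw [e, uu_pow, CharP.cast_eq_zero, zero_mul]
  apply Subtype.ext
  show ((uu 0 : SS) : Matrix (Fin 2) (Fin 2) KK) = 1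
  rw [uu_coe, Matrix.one_fin_two]

set_option maxRecDepth 4000 in
/-- The torus element. -/
theorem exists_torus (hp2 : p ≠ 2) (R : Subgroup SS) [Finite R] {c : KK} (hc : c ≠ 0)
    (hu : uu 1 ∈ R) (hl : ll c ∈ R) :
    ∃ r ∈ R, ∃ μ : ZMod p, orderOf μ = p - 1 ∧ r.1 1 0 = 0 ∧
      r.1 0 0 = algebraMap (ZMod p) KK μ ∧ r.1 1 1 = algebraMap (ZMod p) KK μ⁻¹ := by
  classical
  have : NeZero p := ⟨hp.out.ne_zero⟩
  obtain ⟨f, hf, hfR⟩ := exists_sl2p hp2 R hc hu hl
  obtain ⟨lam, hlam0, hlo⟩ : ∃ l : ZMod p, l ≠ 0 ∧ orderOf l = p - 1 := by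
    obtain ⟨lam, hlam⟩ := IsCyclic.exists_generator (α := (ZMod p)ˣ)
    refine ⟨lam, Units.ne_zero lam, ?_⟩
    rw [orderOf_units, orderOf_eq_card_of_forall_mem_zpowers hlam, Nat.card_eq_fintype_card, ZMod.card_units]
  let dm : Matrix.SpecialLinearGroup (Fin 2) (ZMod p) :=
    ⟨!![lam, 0; 0, lam⁻¹], by rw [Matrix.det_fin_two_of, mul_inv_cancel₀ hlam0]; ring⟩
  let um : Matrix.SpecialLinearGroup (Fin 2) (ZMod p) := ⟨!![1, 1; 0, 1], by simp [Matrix.det_fin_two]⟩
  have hdpow : ∀ k : ℕ, (dm ^ k).1 = !![lam ^ k, 0; 0, lam⁻¹ ^ k] := fun k => by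
    induction k with
    | zero => simp [Matrix.one_fin_two]
    | succ k ih =>
      rw [pow_succ, Matrix.SpecialLinearGroup.coe_mul, ih]
      simp [dm, pow_succ]
  have hupow : ∀ k : ℕ, (um ^ k).1 = !![(1 : ZMod p), (k : ZMod p); 0, 1] := fun k => by
    induction k with
    | zero => simp [Matrix.one_fin_two]
    | succ k ih =>
      rw [pow_succ, Matrix.SpecialLinearGroup.coe_mul, ih]
      simp [um, add_comm]
  have hdo : orderOf dm = p - 1 := by
    rw [← hlo]
    refine orderOf_eq_orderOf_iff.2 fun k => ⟨fun h => ?_, fun h => ?_⟩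
    · have := congrArg (fun M : Matrix.SpecialLinearGroup (Fin 2) (ZMod p) => M.1 0 0) h
      simp only [hdpow] at this
      simpa using this
    · apply Subtype.ext
      rw [hdpow, inv_pow, h]
      simp [Matrix.one_fin_two]
  set g := f um with hg
  have hum1 : um ≠ 1 := fun e => by
    have := congrArg (fun M : Matrix.SpecialLinearGroup (Fin 2) (ZMod p) => M.1 0 1) e
    simp [um] at this
  have hg1 : g ≠ 1 := fun e => hum1 (hf (by rw [← hg, e, map_one]))
  have hgp : g ^ p = 1 := by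
    rw [hg, ← map_pow]
    have e : um ^ p = 1 := Subtype.ext (by rw [hupow]; simp [Matrix.one_fin_two])
    rw [e, map_one]
  have hg2 : g ≠ -1 := fun e => by
    rw [e, (hp.out.odd_of_ne_two hp2).neg_pow, one_pow] at hgp
    exact neg_one_ne_one hp2 hgp
  have hgR : g ∈ R := hfR ⟨um, rfl⟩
  obtain ⟨a, v, ha, hv, hgv, hall⟩ : ∃ a : KK, ∃ v : Fin 2 → KK, (a = 1 ∨ a = -1) ∧ v ≠ 0 ∧
      g.1 *ᵥ v = a • v ∧ ∀ (x : Fin 2 → KK) (l : KK), g.1 *ᵥ x = l • x → ∃ c : KK, x = c • v := by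
    rcases eigen_cases hg1 hg2 with ⟨a, b, v, w, hab, hv, hw, hav, hbw, -⟩ | ⟨a, v, ha, hv, hav, -, hall⟩
    · exfalso
      have h1 : ∀ (x : Fin 2 → KK) (l : KK), x ≠ 0 → g.1 *ᵥ x = l • x → l = 1 := by
        intro x l hx hlx
        have hk : ∀ k : ℕ, (g ^ k : SS).1 *ᵥ x = l ^ k • x := fun k => by
          induction k with
          | zero => simp
          | succ k ih =>
            rw [pow_succ, Matrix.SpecialLinearGroup.coe_mul, ← Matrix.mulVec_mulVec, hlx,
              Matrix.mulVec_smul, ih, smul_smul, pow_succ, mul_comm]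
        have h2 : l ^ p = 1 := by
          have e := hk p
          rw [hgp, Matrix.SpecialLinearGroup.coe_one, Matrix.one_mulVec] at e
          exact smul_left_injective KK hx (show l ^ p • x = (1 : KK) • x by rw [one_smul]; exact e.symm)
        have h3 : (l - 1) ^ p = 0 := by rw [sub_pow_char, h2, one_pow, sub_self]
        exact sub_eq_zero.1 (pow_eq_zero_iff (hp.out.ne_zero) |>.1 h3)
      exact hab ((h1 v a hv hav).trans (h1 w b hw hbw).symm)
    · exact ⟨a, v, ha, hv, hav, hall⟩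
  set L := Projectivization.mk KK v hv with hL
  set d := f dm with hd
  have hdR : d ∈ R := hfR ⟨dm, rfl⟩
  have huniq : ∀ M : ℙ KK (Fin 2 → KK), (⟨g, hgR⟩ : R) • M = M → M = L := by
    intro M hM
    obtain ⟨l, hl'⟩ := fix_rep R _ hM
    obtain ⟨t, ht⟩ := hall _ l hl'
    exact mk_eq_of_smul hv ht
  obtain ⟨x, hx⟩ := unique_fix_mem_orbit hp2 hu (neg_one_mem hp2 hc hu hl) (g := ⟨g, hgR⟩) hg1 hg2 huniq
  -- `d` fixes the line
  have hdum : dm⁻¹ * um * dm = um ^ (lam⁻¹ ^ 2).val := by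
    rw [mul_assoc, inv_mul_eq_iff_eq_mul]
    apply Subtype.ext
    rw [Matrix.SpecialLinearGroup.coe_mul, Matrix.SpecialLinearGroup.coe_mul, hupow, ZMod.natCast_rightInverse]
    simp [dm, um]
    field_simp
  set dR : R := ⟨d, hdR⟩ with hdR'
  set gR : R := ⟨g, hgR⟩ with hgR'
  have hgd : gR * dR = dR * gR ^ (lam⁻¹ ^ 2).val := by
    apply Subtype.ext
    show g * d = d * g ^ _
    rw [hg, hd, ← map_pow, ← map_mul, ← map_mul, ← hdum]
    group
  have hgL : gR • L = L := (fix_iff R gR hv).2 ⟨a, hgv⟩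
  have hgkL : ∀ k : ℕ, gR ^ k • L = L := fun k => by
    induction k with
    | zero => simp
    | succ k ih => rw [pow_succ, mul_smul, hgL, ih]
  have hdL : dR • L = L := by
    apply huniq
    show gR • dR • L = dR • L
    rw [← mul_smul, hgd, mul_smul, hgkL]
  set rR : R := x⁻¹ * dR * x with hrR
  have hrfix : rR • (inf' : ℙ KK (Fin 2 → KK)) = inf' := by
    rw [hrR, mul_smul, mul_smul, hx, hdL, ← hx, inv_smul_smul]
  set r : SS := (rR : SS) with hr
  have h10 : r.1 1 0 = 0 := (smul_inf_iff rR).1 hrfix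
  have hro : orderOf r = p - 1 := by
    rw [hr, Subgroup.orderOf_coe, hrR, ← hdo, ← orderOf_injective f hf dm, ← hd,
      ← Subgroup.orderOf_mk d hdR, ← hdR']
    have := MulEquiv.orderOf_eq (MulAut.conj x⁻¹) dR
    simpa using this
  have hr00 : r.1 0 0 ^ (p - 1) = 1 := by
    have h := (diag_pow h10 (p - 1)).2.1
    rw [← hro, pow_orderOf_eq_one] at h
    rw [← hro]
    simpa using h.symm
  obtain ⟨μ, hμ⟩ := exists_algebraMap_eq hr00
  have hdet : r.1 0 0 * r.1 1 1 = 1 := by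
    have := r.det_coe
    rw [Matrix.det_fin_two, h10] at this
    linear_combination this
  refine ⟨r, rR.2, μ, ?_, h10, hμ.symm, ?_⟩
  · have hμ0 : μ ≠ 0 := fun e => by
      rw [e, map_zero] at hμ; rw [← hμ, zero_mul] at hdet; exact zero_ne_one hdet
    refine Nat.dvd_antisymm (orderOf_dvd_of_pow_eq_one (ZMod.pow_card_sub_one_eq_one hμ0)) ?_
    rw [← hro]
    set k := orderOf μ with hk
    obtain ⟨i10, i00, i11⟩ := diag_pow h10 k
    have e00 : (r ^ k : SS).1 0 0 = 1 := by rw [i00, ← hμ, ← map_pow, hk, pow_orderOf_eq_one, map_one]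
    have e11 : (r ^ k : SS).1 1 1 = 1 := by
      have h2 := (r ^ k : SS).det_coe
      rw [Matrix.det_fin_two, i10, e00] at h2
      linear_combination h2
    have hpk := (unipotent_pow e00 i10 e11).2
    have h3 : (r ^ k) ^ (p - 1) = 1 := by rw [← pow_mul, mul_comm, pow_mul, ← hro, pow_orderOf_eq_one, one_pow]
    refine orderOf_dvd_of_pow_eq_one ?_
    have h4 : (r ^ k) ^ ((p - 1) + 1) = 1 := by
      rw [Nat.sub_add_cancel hp.out.one_le]; exact hpk
    rwa [pow_succ, h3, one_mul] at h4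
  · rw [map_inv₀, hμ]
    exact eq_inv_of_mul_eq_one_right hdet

end CfsgLib.LocalEven.ZJFusion
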