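import Cfsg.Agent.Lib.PStab.QdSection
import Cfsg.Agent.Lib.LocalEven.ZJFusion.Torus
import Cfsg.Agent.Lib.Techniques.Functor.SylowNorm

/-!
A pair of quadratic elements that does not act as a `p`-group has a torus element whose eigenvalues on the
plane generate the multiplicative group of the prime field.
-/

set_option autoImplicit false

namespace CfsgLib.LocalEven.ZJFusion

open Matrix CfsgLib.PStab CfsgLib.PStab.Dickson

variable {p : ℕ} [hp : Fact p.Prime]

local notation "KK" => AlgebraicClosure (ZMod p)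
local notation "SS" => Matrix.SpecialLinearGroup (Fin 2) (AlgebraicClosure (ZMod p))

variable {E : Type*} [Group E] [Finite E] {W : Type*} [AddCommGroup W] [Module (ZMod p) W]
  [FiniteDimensional (ZMod p) W]

/-- The plane quotient. -/
theorem exists_plane_quotient (φ : E →* Module.End (ZMod p) W) {a b : E}
    (hgen : Subgroup.closure ({a, b} : Set E) = ⊤)
    (hA : (φ a - 1) * (φ a - 1) = 0) (hB : (φ b - 1) * (φ b - 1) = 0)
    {h : E} (hh : ∀ k : ℕ, φ (h ^ p ^ k) ≠ 1) :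
    ∃ (σ : E →* SS) (c : KK) (Q : W →ₗ[ZMod p] (Fin 2 → KK)), c ≠ 0 ∧ σ a = uu 1 ∧ σ b = ll c ∧
      (∀ g x, Q (φ g x) = (σ g).1 *ᵥ Q x) ∧ ∃ x, Q x 1 ≠ 0 := by
  classical
  set bas := Module.finBasis (ZMod p) W
  set n := Module.finrank (ZMod p) W
  let T : Module.End (ZMod p) W →+* Matrix (Fin n) (Fin n) KK :=
    (algebraMap (ZMod p) KK).mapMatrix.comp (LinearMap.toMatrixAlgEquiv bas).toRingEquiv.toRingHom
  have hT : Function.Injective T :=
    (Matrix.map_injective (algebraMap (ZMod p) KK).injective).comp (LinearMap.toMatrixAlgEquiv bas).injective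
  let M : E →* Matrix (Fin n) (Fin n) KK := T.toMonoidHom.comp φ
  have hMT : ∀ g, M g = T (φ g) := fun g => rfl
  have hTf : ∀ f, T f = (LinearMap.toMatrix bas bas f).map (algebraMap (ZMod p) KK) := fun f => rfl
  have hinvq : ∀ g, (φ g - 1) * (φ g - 1) = 0 → (M g⁻¹ - 1) * (M g⁻¹ - 1) = 0 := by
    intro g hg
    have h1 : (M g - 1) * (M g - 1) = 0 := by rw [hMT, ← map_one T, ← map_sub, ← map_mul, hg, map_zero]
    have h2 : M g * (2 - M g) = 1 := by
      have : M g * (2 - M g) = 1 - (M g - 1) * (M g - 1) := by noncomm_ring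
      rw [this, h1, sub_zero]
    have h3 : M g⁻¹ = 2 - M g := by
      calc M g⁻¹ = M g⁻¹ * (M g * (2 - M g)) := by rw [h2, mul_one]
        _ = _ := by rw [← mul_assoc, ← map_mul, inv_mul_cancel, map_one, one_mul]
    rw [h3, show (2 : Matrix (Fin n) (Fin n) KK) - M g - 1 = -(M g - 1) by rw [← one_add_one_eq_two]; abel, neg_mul_neg, h1]
  -- the dual representation
  let ψ : E →* Module.End KK (Fin n → KK) :=
    { toFun := fun g => Matrix.toLinAlgEquiv' (M g⁻¹)ᵀ
      map_one' := by rw [inv_one, map_one, Matrix.transpose_one, map_one]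
      map_mul' := fun g g' => by rw [_root_.mul_inv_rev, map_mul, Matrix.transpose_mul, map_mul] }
  have hψ : ∀ g, ψ g = Matrix.toLinAlgEquiv' (M g⁻¹)ᵀ := fun g => rfl
  have hq : ∀ g, (φ g - 1) * (φ g - 1) = 0 → (ψ g - 1) * (ψ g - 1) = 0 := by
    intro g hg
    rw [hψ, ← map_one (Matrix.toLinAlgEquiv' (R := KK) (n := Fin n)), ← map_sub, ← map_mul,
      ← Matrix.transpose_one, ← Matrix.transpose_sub, ← Matrix.transpose_mul, hinvq g hg,
      Matrix.transpose_zero, map_zero]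
  have hgen' : Subgroup.closure ({b, a} : Set E) = ⊤ := by rwa [Set.pair_comm]
  have hnil : ¬ IsNilpotent ((ψ b - 1) * (ψ a - 1)) := fun hnil => by
    have h1 : IsNilpotent (ψ h⁻¹ - 1) := isNilpotent_sub_one_of_pair ψ hgen' (hq b hB) (hq a hA) hnil _
    rw [hψ, inv_inv, ← map_one (Matrix.toLinAlgEquiv' (R := KK) (n := Fin n)), ← map_sub,
      IsNilpotent.map_iff (Matrix.toLinAlgEquiv' (R := KK) (n := Fin n)).injective, ← Matrix.transpose_one,
      ← Matrix.transpose_sub, Matrix.isNilpotent_transpose_iff, hMT, ← map_one T, ← map_sub,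
      IsNilpotent.map_iff hT] at h1
    have hchar : ((p : ℕ) : Module.End (ZMod p) W) = 0 := by
      rw [← map_natCast (algebraMap (ZMod p) _), ZMod.natCast_self, map_zero]
    obtain ⟨k, hk⟩ := pow_eq_one_of_isNilpotent_sub_one hp.out hchar h1
    exact hh k (by rw [map_pow]; exact hk)
  obtain ⟨ρ, c, L, hc, hρb, hρa, hL, hint⟩ :=
    exists_plane_intertwining ψ hgen' (hq b hB) (hq a hA) hnil
  set Lm : Matrix (Fin n) (Fin 2) KK := LinearMap.toMatrix' L with hLm
  have hint' : ∀ g, (M g⁻¹)ᵀ * Lm = Lm * ρ g := by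
    intro g
    have e : (ψ g) ∘ₗ L = L ∘ₗ Matrix.toLin' (ρ g) := LinearMap.ext (hint g)
    have := congrArg LinearMap.toMatrix' e
    rw [LinearMap.toMatrix'_comp, LinearMap.toMatrix'_comp, LinearMap.toMatrix'_toLin', hψ] at this
    rw [hLm]
    convert this using 2
    exact (LinearMap.toMatrix'_toLin' _).symm
  set D : Matrix (Fin 2) (Fin 2) KK := !![-1, 0; 0, 1] with hD
  have hDD : D * D = 1 := by rw [hD]; ext i j; fin_cases i <;> fin_cases j <;> simp
  have hρdet : ∀ g, (ρ g).det = 1 := fun g => by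
    refine forall_of_closure_pair (P := fun g => (ρ g).det = 1) hgen' (by rw [map_one, Matrix.det_one])
      (by rw [hρb]; simp [Matrix.det_fin_two]) (by rw [hρa]; simp [Matrix.det_fin_two])
      (fun x y hx hy => by rw [map_mul, Matrix.det_mul, hx, hy, one_mul]) g
  let σ : E →* SS :=
    { toFun := fun g => ⟨D * (ρ g⁻¹)ᵀ * D, by
        rw [Matrix.det_mul, Matrix.det_mul, Matrix.det_transpose, hρdet, mul_one, ← Matrix.det_mul,
          hDD, Matrix.det_one]⟩
      map_one' := Subtype.ext (by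
        show D * (ρ 1⁻¹)ᵀ * D = 1
        rw [inv_one, map_one, Matrix.transpose_one, mul_one, hDD])
      map_mul' := fun g g' => Subtype.ext (by
        show D * (ρ (g * g')⁻¹)ᵀ * D = D * (ρ g⁻¹)ᵀ * D * (D * (ρ g'⁻¹)ᵀ * D)
        rw [_root_.mul_inv_rev, map_mul, Matrix.transpose_mul]
        calc D * ((ρ g⁻¹)ᵀ * (ρ g'⁻¹)ᵀ) * D = D * (ρ g⁻¹)ᵀ * 1 * (ρ g'⁻¹)ᵀ * D := by
              rw [mul_one]; simp only [mul_assoc]
          _ = _ := by rw [← hDD]; simp only [mul_assoc]) }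
  have hσ : ∀ g, (σ g).1 = D * (ρ g⁻¹)ᵀ * D := fun g => rfl
  have hinv : ∀ g (Y : Matrix (Fin 2) (Fin 2) KK), ρ g * Y = 1 → ρ g⁻¹ = Y := by
    intro g Y hY
    calc ρ g⁻¹ = ρ g⁻¹ * (ρ g * Y) := by rw [hY, mul_one]
      _ = Y := by rw [← mul_assoc, ← map_mul, inv_mul_cancel, map_one, one_mul]
  have hσa : σ a = uu 1 := Subtype.ext (by
    rw [hσ, hinv a !![1, 0; -1, 1] (by rw [hρa]; ext i j; fin_cases i <;> fin_cases j <;> simp), uu_coe, hD]
    ext i j; fin_cases i <;> fin_cases j <;>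
      simp [Matrix.mul_apply, Fin.sum_univ_two, Matrix.transpose_apply, Matrix.vecMul, dotProduct])
  have hσb : σ b = ll c := Subtype.ext (by
    rw [hσ, hinv b !![1, -c; 0, 1] (by rw [hρb]; ext i j; fin_cases i <;> fin_cases j <;> simp), ll_coe, hD]
    ext i j; fin_cases i <;> fin_cases j <;>
      simp [Matrix.mul_apply, Fin.sum_univ_two, Matrix.transpose_apply, Matrix.vecMul, dotProduct])
  let Q : W →ₗ[ZMod p] (Fin 2 → KK) := AddMonoidHom.toZModLinearMap p
    { toFun := fun x => (D * Lmᵀ) *ᵥ fun i => algebraMap (ZMod p) KK (bas.repr x i)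
      map_zero' := by
        rw [show (fun i => algebraMap (ZMod p) KK (bas.repr 0 i)) = 0 from by funext i; simp,
          Matrix.mulVec_zero]
      map_add' := fun x y => by
        rw [← Matrix.mulVec_add]
        congr 1
        funext i
        simp }
  have hQ : ∀ x, Q x = (D * Lmᵀ) *ᵥ fun i => algebraMap (ZMod p) KK (bas.repr x i) := fun x => rfl
  have hvec : ∀ g x, (fun i => algebraMap (ZMod p) KK (bas.repr (φ g x) i)) =
      M g *ᵥ fun i => algebraMap (ZMod p) KK (bas.repr x i) := by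
    intro g x
    funext i
    rw [hMT, hTf, ← LinearMap.toMatrix_mulVec_repr bas bas (φ g) x]
    exact RingHom.map_mulVec (algebraMap (ZMod p) KK) _ _ i
  have hQφ : ∀ g x, Q (φ g x) = (σ g).1 *ᵥ Q x := by
    intro g x
    rw [hQ, hQ, hvec, Matrix.mulVec_mulVec, Matrix.mulVec_mulVec, hσ]
    congr 1
    have e := congrArg Matrix.transpose (hint' g⁻¹)
    rw [Matrix.transpose_mul, Matrix.transpose_mul, Matrix.transpose_transpose, inv_inv] at e
    calc D * Lmᵀ * M g = D * ((ρ g⁻¹)ᵀ * Lmᵀ) := by rw [Matrix.mul_assoc, e]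
      _ = D * (ρ g⁻¹)ᵀ * 1 * Lmᵀ := by rw [Matrix.mul_one, Matrix.mul_assoc]
      _ = _ := by rw [← hDD]; simp only [Matrix.mul_assoc]
  refine ⟨σ, c, Q, hc, hσa, hσb, hQφ, ?_⟩
  by_contra hall
  push Not at hall
  have hall0 : ∀ x, Q x = 0 := by
    intro x
    have h1 := hall (φ b x)
    rw [hQφ, hσb, ll_coe] at h1
    simp [Matrix.mulVec, dotProduct, Fin.sum_univ_two, hall x, hc] at h1
    funext i
    fin_cases i
    · exact h1
    · exact hall x
  have hLm0 : D * Lmᵀ = 0 := by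
    ext i j
    have := congrFun (hall0 (bas j)) i
    rw [hQ] at this
    simpa [Matrix.mulVec, dotProduct, Finsupp.single_apply, apply_ite] using this
  have : Lm = 0 := by
    have e : D * (D * Lmᵀ) = 0 := by rw [hLm0, Matrix.mul_zero]
    rw [← Matrix.mul_assoc, hDD, Matrix.one_mul] at e
    simpa using congrArg Matrix.transpose e
  have hL0 : L = 0 := LinearMap.toMatrix'.injective (by rw [← hLm, this, map_zero])
  have := hL (show L ![1, 0] = L 0 by rw [hL0]; rfl)
  simpa using congrFun this 0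

open scoped _root_.Classical in
/-- The torus element for a quadratic pair moving a subspace as a non-`p`-group. -/
theorem exists_plane_eigen (hp2 : p ≠ 2) (φ : E →* Module.End (ZMod p) W) {a b : E}
    (hgen : Subgroup.closure ({a, b} : Set E) = ⊤) (hap : IsPGroup p (Subgroup.zpowers a))
    (hA : (φ a - 1) * (φ a - 1) = 0) (hB : (φ b - 1) * (φ b - 1) = 0) (W0 : Submodule (ZMod p) W)
    {h : E} (hh : ∀ k : ℕ, ∃ e : E, ∃ w ∈ W0, φ (h ^ p ^ k) (φ e w) ≠ φ e w) :
    ∃ (P : Subgroup E) (t : E) (μ : ZMod p) (Y : Submodule (ZMod p) W)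
      (π : Y →ₗ[ZMod p] (Fin 2 → ZMod p)),
      IsPGroup p P ∧ a ∈ P ∧ t ∈ Subgroup.normalizer (P : Set E) ∧ orderOf μ = p - 1 ∧
      Function.Surjective π ∧
      (∀ y : Y, ∃ hy : φ a y.1 ∈ Y, π ⟨_, hy⟩ = !![1, 1; 0, 1] *ᵥ π y) ∧
      (∀ y : Y, ∃ hy : φ t y.1 ∈ Y, π ⟨_, hy⟩ = !![μ, 0; 0, μ⁻¹] *ᵥ π y) ∧
      ∀ W1 : Submodule (ZMod p) W, W0 ≤ W1 → (∀ w ∈ W1, φ t w ∈ W1) →
        ∃ ν : ZMod p, orderOf ν = p - 1 ∧ ∃ w ∈ W1, w ≠ 0 ∧ φ t w = ν • w := by
  set MW : Submodule (ZMod p) W := ⨆ e : E, W0.map (φ e) with hMW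
  have hmem : ∀ e : E, ∀ w ∈ W0, φ e w ∈ MW := fun e w hw =>
    Submodule.mem_iSup_of_mem e (Submodule.mem_map_of_mem hw)
  have hinv : ∀ g : E, ∀ x ∈ MW, φ g x ∈ MW := by
    intro g x hx
    have : MW.map (φ g) ≤ MW := by
      rw [hMW, Submodule.map_iSup]
      refine iSup_le fun e => le_iSup_of_le (g * e) ?_
      rw [← Submodule.map_comp, ← Module.End.mul_eq_comp, ← map_mul]
    exact this (Submodule.mem_map_of_mem hx)
  let φ' : E →* Module.End (ZMod p) MW :=
    { toFun := fun g => (φ g).restrict (hinv g)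
      map_one' := LinearMap.ext fun x => Subtype.ext (by simp)
      map_mul' := fun g g' => LinearMap.ext fun x => Subtype.ext (by simp) }
  have hφ' : ∀ g (x : MW), ((φ' g x : MW) : W) = φ g x := fun g x => rfl
  have hq : ∀ g, (φ g - 1) * (φ g - 1) = 0 → (φ' g - 1) * (φ' g - 1) = 0 := by
    intro g hg
    refine LinearMap.ext fun x => Subtype.ext ?_
    have := LinearMap.congr_fun hg (x : W)
    simpa [Module.End.mul_apply, hφ'] using this
  obtain ⟨σ, c, Q, hc, hσa, hσb, hQ, x0, hx0⟩ := exists_plane_quotient φ' hgen (hq a hA) (hq b hB)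
    (h := h) fun k hk => by
      obtain ⟨e, w, hw, hne⟩ := hh k
      exact hne (congrArg Subtype.val (LinearMap.congr_fun hk ⟨_, hmem e w hw⟩))
  have : Finite σ.range := Finite.of_surjective σ.rangeRestrict σ.rangeRestrict_surjective
  obtain ⟨r, ⟨h0, hh0⟩, μ, hμ, h10, h00, h11⟩ :=
    exists_torus hp2 σ.range hc ⟨a, hσa⟩ ⟨b, hσb⟩
  have hp1 : 0 < p - 1 := by have := hp.out.two_le; omega
  have hμ0 : μ ≠ 0 := fun e => by
    have := pow_orderOf_eq_one μ
    rw [hμ, e, zero_pow hp1.ne'] at this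
    exact zero_ne_one this
  -- the preimages of the triangular and the unitriangular matrices
  let BE : Subgroup E :=
    { carrier := {g | (σ g).1 1 0 = 0}
      one_mem' := by simp
      mul_mem' := fun {g g'} hg hg' => by
        simp only [Set.mem_ofPred_eq] at hg hg' ⊢
        rw [map_mul, Matrix.SpecialLinearGroup.coe_mul, Matrix.mul_apply, Fin.sum_univ_two, hg, hg']
        ring
      inv_mem' := fun {g} hg => by
        simp only [Set.mem_ofPred_eq] at hg ⊢
        rw [map_inv, Matrix.SpecialLinearGroup.SL2_inv_expl]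
        simp [hg] }
  let UE : Subgroup E :=
    { carrier := {g | (σ g).1 1 0 = 0 ∧ (σ g).1 0 0 = 1}
      one_mem' := by simp
      mul_mem' := fun {g g'} hg hg' => by
        simp only [Set.mem_ofPred_eq] at hg hg' ⊢
        rw [map_mul, Matrix.SpecialLinearGroup.coe_mul, Matrix.mul_apply, Matrix.mul_apply,
          Fin.sum_univ_two, Fin.sum_univ_two, hg.1, hg'.1, hg.2, hg'.2]
        constructor <;> ring
      inv_mem' := fun {g} hg => by
        simp only [Set.mem_ofPred_eq] at hg ⊢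
        have hd := (σ g).det_coe
        rw [Matrix.det_fin_two, hg.1, hg.2] at hd
        rw [map_inv, Matrix.SpecialLinearGroup.SL2_inv_expl]
        simp [hg.1]
        linear_combination hd }
  have hUB : UE ≤ BE := fun g hg => hg.1
  have haU : a ∈ UE := by show _ ∧ _; rw [hσa, uu_coe]; simp
  have hap' : IsPGroup p ((Subgroup.zpowers a).subgroupOf UE) :=
    hap.of_equiv (Subgroup.subgroupOfEquivOfLe (Subgroup.zpowers_le.2 haU)).symm
  obtain ⟨T, hT⟩ := hap'.exists_le_sylow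
  set P := (T : Subgroup UE).map UE.subtype with hP
  have haP : a ∈ P := ⟨⟨a, haU⟩, hT (Subgroup.mem_subgroupOf.2 (Subgroup.mem_zpowers a)), rfl⟩
  have hPU : P ≤ UE := Subgroup.map_subtype_le _
  have hPidx : ¬ p ∣ P.relIndex UE := by
    show ¬ p ∣ (P.subgroupOf UE).index
    rw [show P.subgroupOf UE = (T : Subgroup UE) from
      Subgroup.comap_map_eq_self_of_injective UE.subtype_injective _]
    exact T.not_dvd_index
  have hh0B : h0 ∈ BE := by show (σ h0).1 1 0 = 0; rw [hh0]; exact h10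
  have hUn : CfsgLib.Fusion.conjSub h0 UE = UE := by
    refine CfsgLib.Fusion.conjSub_eq_iff_mem_normalizer.2
      (CfsgLib.Solvable.mem_normalizer_of_conj_mem fun g hg => ?_)
    refine ⟨BE.mul_mem (BE.mul_mem hh0B hg.1) (BE.inv_mem hh0B), ?_⟩
    show (σ (h0 * g * h0⁻¹)).1 0 0 = 1
    have hd := (σ h0).det_coe
    rw [Matrix.det_fin_two, show (σ h0).1 1 0 = 0 from hh0B] at hd
    have h0' : (σ h0).1 1 0 = 0 := hh0B
    have e := congrArg (fun X : SS => X.1 0 0) (map_mul σ (h0 * g * h0⁻¹) h0)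
    simp only [inv_mul_cancel_right, Matrix.SpecialLinearGroup.coe_mul, Matrix.mul_apply,
      Fin.sum_univ_two, h0', mul_zero, add_zero, map_mul σ h0 g, hg.1, hg.2, mul_one] at e
    rw [mul_zero, sub_zero] at hd
    exact (mul_eq_right₀ (left_ne_zero_of_mul_eq_one hd)).1 e.symm
  obtain ⟨n, hn, hne⟩ := CfsgLib.Techniques.Functor.exists_conjSub_eq (H := UE)
    (T := CfsgLib.Fusion.conjSub h0 P) (R := P) ((T.2.map _).map _)
    (by rw [← hUn]; exact CfsgLib.Fusion.conjSub_mono h0 hPU)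
    (by
      have h := CfsgLib.Fusion.not_dvd_relIndex_map (MulAut.conj h0).toMonoidHom hPU hPidx
      rwa [show UE.map (MulAut.conj h0).toMonoidHom = UE from hUn] at h)
    (T.2.map _) hPU hPidx
  set t0 := n * h0 with ht0
  have ht0N : t0 ∈ Subgroup.normalizer (P : Set E) := by
    rw [← CfsgLib.Fusion.conjSub_eq_iff_mem_normalizer, ht0, ← CfsgLib.Fusion.conjSub_conjSub, hne]
  have ht010 : (σ t0).1 1 0 = 0 := BE.mul_mem (hUB hn) hh0B
  have ht000 : (σ t0).1 0 0 = algebraMap (ZMod p) KK μ := by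
    rw [ht0, map_mul, Matrix.SpecialLinearGroup.coe_mul, Matrix.mul_apply, Fin.sum_univ_two, hn.2, hh0, h10,
      h00]
    ring
  set t := t0 ^ p with ht
  have htN : t ∈ Subgroup.normalizer (P : Set E) := pow_mem ht0N p
  obtain ⟨s10, s00, -⟩ := diag_pow ht010 p
  have hμp : μ ^ p = μ := ZMod.pow_card μ
  have e10 : (σ t).1 1 0 = 0 := by rw [ht, map_pow]; exact s10
  have e00 : (σ t).1 0 0 = algebraMap (ZMod p) KK μ := by rw [ht, map_pow, s00, ht000, ← map_pow, hμp]
  have e11 : (σ t).1 1 1 = algebraMap (ZMod p) KK μ⁻¹ := by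
    have hd := (σ t).det_coe
    rw [Matrix.det_fin_two, e10, e00] at hd
    rw [map_inv₀]
    exact eq_inv_of_mul_eq_one_right (by linear_combination hd)
  have htord : (σ t) ^ (p - 1) = 1 := by
    rw [ht, map_pow, ← pow_mul, mul_comm, pow_mul]
    obtain ⟨i10, i00, -⟩ := diag_pow ht010 (p - 1)
    have e : ((σ t0) ^ (p - 1) : SS).1 0 0 = 1 := by
      rw [i00, ht000, ← map_pow, ← hμ, pow_orderOf_eq_one, map_one]
    have hd := ((σ t0) ^ (p - 1) : SS).det_coe
    rw [Matrix.det_fin_two, i10, e] at hd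
    exact (unipotent_pow e i10 (by linear_combination hd)).2
  -- the eigenvector of `t` outside the fixed line
  set Rng := LinearMap.range Q with hRng
  have hRinv : ∀ g : E, ∀ v ∈ Rng, (σ g).1 *ᵥ v ∈ Rng := by
    rintro g _ ⟨x, rfl⟩
    exact ⟨φ' g x, hQ g x⟩
  set v0 := Q x0 with hv0
  set σt := (σ t).1 with hσt
  set dv : Fin 2 → KK := ∑ i ∈ Finset.range (p - 1), μ ^ i • (σt ^ i *ᵥ v0) with hdv
  have hpow : ∀ i : ℕ, σt ^ i *ᵥ v0 ∈ Rng := fun i => by
    induction i with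
    | zero => rw [pow_zero, Matrix.one_mulVec]; exact ⟨x0, rfl⟩
    | succ i ih => rw [pow_succ', ← Matrix.mulVec_mulVec]; exact hRinv t _ ih
  have hdR : dv ∈ Rng := Submodule.sum_mem _ fun i _ => Submodule.smul_mem _ _ (hpow i)
  have hsm : ∀ (z : ZMod p) (v : Fin 2 → KK), z • v = algebraMap (ZMod p) KK z • v := fun z v =>
    (algebraMap_smul KK z v).symm
  have hp1' : σt ^ (p - 1) = 1 := by
    rw [hσt, ← Matrix.SpecialLinearGroup.coe_pow, htord, Matrix.SpecialLinearGroup.coe_one]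
  have hdt : σt *ᵥ dv = μ⁻¹ • dv := by
    have hsum : ∑ i ∈ Finset.range (p - 1), μ ^ (i + 1) • (σt ^ (i + 1) *ᵥ v0) = dv := by
      have h1 := Finset.sum_range_succ' (fun i => μ ^ i • (σt ^ i *ᵥ v0)) (p - 1)
      have h2 := Finset.sum_range_succ (fun i => μ ^ i • (σt ^ i *ᵥ v0)) (p - 1)
      rw [hp1', ← hμ, pow_orderOf_eq_one, hμ] at h2
      rw [pow_zero, pow_zero] at h1
      rw [hdv]
      exact add_right_cancel (h1.symm.trans h2)
    conv_rhs => rw [← hsum]
    rw [hdv, Finset.smul_sum, Matrix.mulVec_sum]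
    refine Finset.sum_congr rfl fun i _ => ?_
    rw [hsm, Matrix.mulVec_smul, Matrix.mulVec_mulVec, ← hsm, smul_smul, pow_succ' σt, pow_succ' μ,
      inv_mul_cancel_left₀ hμ0]
  have hd1 : dv 1 ≠ 0 := by
    have hsucc : ∀ i : ℕ, (σt ^ i *ᵥ v0) 1 = algebraMap (ZMod p) KK μ⁻¹ ^ i * v0 1 := fun i => by
      induction i with
      | zero => simp
      | succ i ih =>
        rw [pow_succ' σt, ← Matrix.mulVec_mulVec, Matrix.mulVec, dotProduct, Fin.sum_univ_two, e10, e11, ih]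
        ring
    have : dv 1 = ((p - 1 : ℕ) : KK) * v0 1 := by
      rw [hdv, Finset.sum_apply]
      rw [Finset.sum_congr rfl (g := fun _ => v0 1) fun i _ => ?_]
      · simp
      have e : algebraMap (ZMod p) KK μ ^ i * algebraMap (ZMod p) KK μ⁻¹ ^ i = 1 := by
        rw [← mul_pow, ← map_mul, mul_inv_cancel₀ hμ0, map_one, one_pow]
      rw [hsm, Pi.smul_apply, smul_eq_mul, map_pow, hsucc, ← mul_assoc, e, one_mul]
    rw [this]
    refine mul_ne_zero (fun e => ?_) hx0
    rw [CharP.cast_eq_zero_iff KK p] at e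
    have := Nat.le_of_dvd hp1 e
    omega
  set ev : Fin 2 → KK := ![dv 1, 0] with hev
  have hadd : (σ a).1 *ᵥ dv = dv + ev := by
    rw [hσa, uu_coe, hev]
    funext i
    fin_cases i <;> simp [Matrix.mulVec, dotProduct, Fin.sum_univ_two]
  have heR : ev ∈ Rng := by
    have := Submodule.sub_mem _ (hRinv a _ hdR) hdR
    rwa [hadd, add_sub_cancel_left] at this
  have hat : (σ a).1 *ᵥ ev = ev := by
    rw [hσa, uu_coe, hev]
    funext i
    fin_cases i <;> simp [Matrix.mulVec, dotProduct, Fin.sum_univ_two]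
  have het : σt *ᵥ ev = μ • ev := by
    rw [hsm, hev]
    funext i
    fin_cases i <;> simp [Matrix.mulVec, dotProduct, Fin.sum_univ_two, e00, e10]
  let ι : (Fin 2 → ZMod p) →ₗ[ZMod p] (Fin 2 → KK) :=
    (LinearMap.proj (R := ZMod p) (φ := fun _ : Fin 2 => ZMod p) 0).smulRight ev +
      (LinearMap.proj (R := ZMod p) (φ := fun _ : Fin 2 => ZMod p) 1).smulRight dv
  have hι : ∀ z, ι z = z 0 • ev + z 1 • dv := fun z => by simp [ι]
  have hιinj : Function.Injective ι := by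
    refine LinearMap.ker_eq_bot.1 (LinearMap.ker_eq_bot'.2 fun z hz => ?_)
    rw [hι] at hz
    have h1 := congrFun hz 1
    rw [hsm, hsm] at h1
    simp [hev, hd1] at h1
    rw [h1, zero_smul, add_zero, smul_eq_zero] at hz
    have h0' : z 0 = 0 := hz.resolve_right fun e => hd1 (by simpa [hev] using congrFun e 0)
    funext i
    fin_cases i <;> simp [h0', h1]
  set Y' : Submodule (ZMod p) MW := (LinearMap.range ι).comap Q with hY'
  set Y : Submodule (ZMod p) W := Y'.map MW.subtype with hY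
  let eY := Submodule.equivMapOfInjective MW.subtype MW.injective_subtype Y'
  let π : Y →ₗ[ZMod p] (Fin 2 → ZMod p) :=
    (LinearEquiv.ofInjective ι hιinj).symm.toLinearMap ∘ₗ
      (Q.restrict (p := Y') (q := LinearMap.range ι) fun x hx => hx) ∘ₗ eY.symm.toLinearMap
  have hπ : ∀ (x : MW) (hx : x ∈ Y') (hxY : (x : W) ∈ Y), ι (π ⟨x, hxY⟩) = Q x := by
    intro x hx hxY
    have e : eY.symm ⟨x, hxY⟩ = ⟨x, hx⟩ := by
      apply eY.injective
      rw [LinearEquiv.apply_symm_apply]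
      exact Subtype.ext (by simp [eY])
    show ι ((LinearEquiv.ofInjective ι hιinj).symm _) = _
    rw [← LinearEquiv.ofInjective_apply ι (h := hιinj), LinearEquiv.apply_symm_apply]
    simp [e]
  have hact : ∀ (g : E) (A : Matrix (Fin 2) (Fin 2) (ZMod p)),
      (∀ z, (σ g).1 *ᵥ ι z = ι (A *ᵥ z)) →
      ∀ y : Y, ∃ hy : φ g y.1 ∈ Y, π ⟨_, hy⟩ = A *ᵥ π y := by
    rintro g A hg ⟨_, x, hx, rfl⟩
    have e : Q (φ' g x) = ι (A *ᵥ π ⟨x, x, hx, rfl⟩) :=
      (hQ g x).trans ((congrArg ((σ g).1 *ᵥ ·) (hπ x hx _).symm).trans (hg _))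
    have hmemY : φ' g x ∈ Y' := ⟨_, e.symm⟩
    refine ⟨⟨_, hmemY, rfl⟩, hιinj ?_⟩
    exact (hπ (φ' g x) hmemY ⟨_, hmemY, rfl⟩).trans e
  refine ⟨P, t, μ, Y, π, T.2.map _, haP, htN, hμ, ?_, hact a _ ?_, hact t _ ?_, ?_⟩
  · intro z
    obtain ⟨x, hx⟩ : ι z ∈ Rng := by
      rw [hι]; exact Submodule.add_mem _ (Submodule.smul_mem _ _ heR) (Submodule.smul_mem _ _ hdR)
    have hxY : x ∈ Y' := ⟨z, hx.symm⟩
    exact ⟨⟨x, x, hxY, rfl⟩, hιinj ((hπ x hxY ⟨x, hxY, rfl⟩).trans hx)⟩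
  · intro z
    rw [hι, hι, hsm, hsm, Matrix.mulVec_add, Matrix.mulVec_smul, Matrix.mulVec_smul, hat, hadd, ← hsm, ← hsm]
    simp [Matrix.mulVec, dotProduct, Fin.sum_univ_two]
    module
  · intro z
    rw [hι, hι, hsm, hsm, Matrix.mulVec_add, Matrix.mulVec_smul, Matrix.mulVec_smul, ← hσt, het, hdt,
      ← hsm, ← hsm]
    simp [Matrix.mulVec, dotProduct, Fin.sum_univ_two, smul_smul]
    rw [mul_comm (z 0), mul_comm (z 1)]
  intro W1 hW01 hW1
  obtain ⟨w0, hw0, hne0⟩ : ∃ w : MW, (w : W) ∈ W0 ∧ Q w ≠ 0 := by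
    by_contra hall
    push Not at hall
    have hz : ∀ (x : W) (hx : x ∈ MW), Q ⟨x, hx⟩ = 0 := by
      intro x hx
      refine Submodule.iSup_induction' (motive := fun x hx => Q ⟨x, hx⟩ = 0) _ ?_ ?_ ?_ hx
      · rintro e _ ⟨w, hw, rfl⟩
        have hwM : w ∈ MW := by simpa using hmem 1 w hw
        show Q (φ' e ⟨w, hwM⟩) = 0
        rw [hQ, hall _ hw, Matrix.mulVec_zero]
      · exact map_zero Q
      · intro x y hx hy h1 h2
        show Q (⟨x, hx⟩ + ⟨y, hy⟩) = 0
        rw [map_add, h1, h2, add_zero]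
    exact hx0 (congrFun (hz _ x0.2) 1)
  set W1' : Submodule (ZMod p) MW := W1.comap MW.subtype with hW1'
  have hW1'inv : ∀ x ∈ W1', φ' t x ∈ W1' := fun x hx => hW1 _ hx
  -- an eigenvector from an eigenfunctional
  have key : ∀ (i : Fin 2) (ν : ZMod p), (∀ x ∈ W1', Q (φ' t x) i = algebraMap (ZMod p) KK ν * Q x i) →
      (∃ x ∈ W1', Q x i ≠ 0) → ∃ w ∈ W1, w ≠ 0 ∧ φ t w = ν • w := by
    intro i ν hf ⟨x, hx, hxi⟩
    let F : W1' →ₗ[ZMod p] W1' := (φ' t - ν • 1).restrict fun y hy =>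
      Submodule.sub_mem _ (hW1'inv y hy) (Submodule.smul_mem _ _ hy)
    have hns : ¬ Function.Surjective F := by
      intro hs
      obtain ⟨y, hy⟩ := hs ⟨x, hx⟩
      apply hxi
      have e : x = φ' t y.1 - ν • y.1 := by
        have := congrArg Subtype.val hy
        simpa [F] using this.symm
      rw [e, map_sub, map_smul, Pi.sub_apply, Pi.smul_apply, hf _ y.2, Algebra.smul_def, sub_self]
    have hni : ¬ Function.Injective F := fun hi => hns ((LinearMap.injective_iff_surjective).1 hi)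
    rw [← LinearMap.ker_eq_bot] at hni
    obtain ⟨y, hy, hy0⟩ := (Submodule.ne_bot_iff _).1 hni
    refine ⟨(y.1 : W), y.2, fun e => hy0 (Subtype.ext (Subtype.ext e)), ?_⟩
    have := congrArg (fun z : W1' => ((z : MW) : W)) (LinearMap.mem_ker.1 hy)
    rw [← sub_eq_zero]
    simpa [F, hφ'] using this
  by_cases h1 : ∃ x ∈ W1', Q x 1 ≠ 0
  · refine ⟨μ⁻¹, ?_, key 1 μ⁻¹ (fun x _ => ?_) h1⟩
    · rw [← hμ]
      exact orderOf_eq_orderOf_iff.2 fun k => by rw [inv_pow, inv_eq_one]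
    · rw [hQ, ← hσt]; simp [Matrix.mulVec, dotProduct, Fin.sum_univ_two, e10, e11]
  push Not at h1
  refine ⟨μ, hμ, key 0 μ (fun x hx => ?_) ⟨w0, hW01 hw0, fun e => hne0 ?_⟩⟩
  · rw [hQ, ← hσt]; simp [Matrix.mulVec, dotProduct, Fin.sum_univ_two, e00, h1 x hx]
  · funext i
    fin_cases i
    · exact e
    · exact h1 w0 (hW01 hw0)

end CfsgLib.LocalEven.ZJFusion
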