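import Cfsg.Agent.Lib.Cores.MaximalPair
import Cfsg.Agent.Lib.LocalEven.ZJFusion.Basic
import Cfsg.Agent.Lib.LocalEven.ZJFusion.Plane
import Cfsg.Agent.Lib.LocalEven.ZJFusion.FP

/-!
A quadratic element in a local subgroup moving `W ∩ V` yields the failure structure.
-/

set_option autoImplicit false

namespace CfsgLib.LocalEven.ZJFusion

open Cfsg Subgroup
open CfsgLib.Fusion (conjSub conj_mem_conjSub card_conjSub conjSub_eq_iff_mem_normalizer)
open CfsgLib.Techniques.Functor (Agree exists_conjSub_eq card_lt_of_lt lt_norm)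
open CfsgLib.Cores (pCoreIn le_normalizer_map_of_normal)
open scoped commutatorElement

variable {G : Type*} [Group G] [Finite G] {p : ℕ} [hp : Fact p.Prime]

theorem le_normalizer_pCoreIn (K : Subgroup G) : K ≤ normalizer (pCoreIn p K : Set G) :=
  le_normalizer_map_of_normal inferInstance

theorem pCoreIn_le (K : Subgroup G) : pCoreIn p K ≤ K := map_subtype_le _

theorem isPGroup_pCoreIn (K : Subgroup G) : IsPGroup p (pCoreIn p K) :=
  (CfsgLib.Cores.isPGroup_pCore p).map _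

theorem le_pCoreIn {K N : Subgroup G} (hN : IsPGroup p N) (hNK : N ≤ K)
    (hn : K ≤ normalizer (N : Set G)) : N ≤ pCoreIn p K := by
  have : (N.subgroupOf K).Normal := normal_subgroupOf_of_le_normalizer hn
  have h := CfsgLib.Cores.le_pCore (N := N.subgroupOf K) (hN.of_equiv (subgroupOfEquivOfLe hNK).symm)
  calc N = (N.subgroupOf K).map K.subtype := by rw [subgroupOf_map_subtype, inf_eq_left.2 hNK]
    _ ≤ _ := map_mono h

theorem pCoreIn_le_sylow {K Q : Subgroup G} (hQp : IsPGroup p Q) (hQK : Q ≤ K)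
    (hQi : ¬ p ∣ Q.relIndex K) : pCoreIn p K ≤ Q := by
  let T : Sylow p K := IsPGroup.toSylow (hQp.of_equiv (subgroupOfEquivOfLe hQK).symm) hQi
  calc pCoreIn p K ≤ ((T : Subgroup K)).map K.subtype := map_mono (CfsgLib.Cores.pCore_le_sylow T)
    _ = Q := by
      rw [show (T : Subgroup K) = Q.subgroupOf K from IsPGroup.toSylow_coe _ _, subgroupOf_map_subtype,
        inf_eq_left.2 hQK]

section Class

variable {K Q : Subgroup G} {a : G}

/-- The conjugates of `a` in `Q`. -/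
def cls (K Q : Subgroup G) (a : G) : Set G := {x | x ∈ Q ∧ ∃ k ∈ K, x = k * a * k⁻¹}

theorem cls_conj {x g : G} (hx : x ∈ cls K Q a) (hg : g ∈ K) (hgx : g * x * g⁻¹ ∈ Q) :
    g * x * g⁻¹ ∈ cls K Q a := by
  obtain ⟨-, k, hk, rfl⟩ := hx
  exact ⟨hgx, g * k, mul_mem hg hk, by group⟩

/-- The subgroup generated by the core and the conjugates inside `R`. -/
def gen (p : ℕ) (K Q : Subgroup G) (a : G) (R : Subgroup G) : Subgroup G :=
  pCoreIn p K ⊔ closure (cls K Q a ∩ R)

theorem mem_gen {R : Subgroup G} {x : G} (hx : x ∈ cls K Q a) (hxR : x ∈ R) : x ∈ gen p K Q a R :=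
  mem_sup_right (subset_closure ⟨hx, hxR⟩)

theorem gen_le {R : Subgroup G} (hR : pCoreIn p K ≤ R) : gen p K Q a R ≤ R :=
  sup_le hR ((closure_le _).2 Set.inter_subset_right)

theorem gen_gen {R : Subgroup G} (hR : pCoreIn p K ≤ R) : gen p K Q a (gen p K Q a R) = gen p K Q a R := by
  refine le_antisymm (gen_le le_sup_left) (sup_le le_sup_left ((closure_le _).2 fun x hx => ?_))
  exact mem_gen hx.1 (mem_gen hx.1 hx.2)

/-- An element normalising `R ≤ Q` normalises the generated subgroup. -/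
theorem gen_normalizer {R : Subgroup G} (hRQ : R ≤ Q) :
    K ⊓ normalizer (R : Set G) ≤ normalizer (gen p K Q a R : Set G) := by
  rintro g ⟨hgK, hgR⟩
  refine conjSub_eq_iff_mem_normalizer.1 (eq_of_le_of_card_ge ?_ (card_conjSub g _).ge)
  rw [gen, CfsgLib.Techniques.Functor.conjSub_sup]
  refine sup_le_sup (conjSub_eq_iff_mem_normalizer.2 (le_normalizer_pCoreIn K hgK)).le ?_
  rw [conjSub, MonoidHom.map_closure]
  refine closure_mono ?_
  rintro _ ⟨x, ⟨hx, hxR⟩, rfl⟩
  have hgx : g * x * g⁻¹ ∈ R := (mem_normalizer_iff.1 hgR x).1 hxR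
  exact ⟨cls_conj hx hgK (hRQ hgx), hgx⟩

end Class

variable (W Z0 K Q V : Subgroup G)

/-- The hypotheses on a local subgroup with a quadratic element. -/
structure LocalHyp (p : ℕ) (W Z0 K Q V : Subgroup G) (a : G) : Prop where
  wc : ∀ x ∈ W, ∀ y ∈ W, x * y = y * x
  zW : Z0 ≤ W
  qp : IsPGroup p Q
  qW : Q ≤ normalizer (W : Set G)
  qK : Q ≤ K
  qi : ¬ p ∣ Q.relIndex K
  vX : V ≤ pCoreIn p K
  vK : K ≤ normalizer (V : Set G)
  zV : Z0 ≤ V
  vc : ∀ x ∈ V, ∀ y ∈ V, ⁅x, y⁆ ∈ Z0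
  vp : ∀ x ∈ V, x ^ p ∈ Z0
  fixX : ∀ y ∈ pCoreIn p K, FixMod V Z0 y
  fixQ : ∀ y ∈ Q, FixMod V Z0 y → y ∈ pCoreIn p K
  moved : ¬ K ≤ normalizer ((W ⊓ V : Subgroup G) : Set G)
  proper : ∀ K' : Subgroup G, Q ≤ K' → K' ≤ K → K' ≠ K → ∀ A n, n ∈ K' → A ≤ Q → conjSub n A ≤ Q →
    Fused W A n
  aQ : a ∈ Q
  quad : ∀ v ∈ V, ⁅⁅v, a⁆, a⁆ ∈ Z0
  act : ¬ FixMod V Z0 a

variable {W Z0 K Q V} [Z0.Normal] {a : G}

theorem LocalHyp.vQ (h : LocalHyp p W Z0 K Q V a) : V ≤ Q :=
  h.vX.trans (pCoreIn_le_sylow h.qp h.qK h.qi)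

theorem LocalHyp.fix_stab (h : LocalHyp p W Z0 K Q V a) {g : G} (hg : FixMod V Z0 g) :
    g ∈ normalizer ((W ⊓ V : Subgroup G) : Set G) := by
  refine CfsgLib.Solvable.mem_normalizer_of_conj_mem fun x hx => ?_
  have e : g * x * g⁻¹ = ⁅g, x⁆ * x := by rw [commutatorElement_def]; group
  rw [e]
  exact (W ⊓ V).mul_mem ⟨h.zW (hg x hx.2), h.zV (hg x hx.2)⟩ hx

theorem LocalHyp.over_stab (h : LocalHyp p W Z0 K Q V a) {K' : Subgroup G} (hQ : Q ≤ K') (hK : K' ≤ K)
    (hne : K' ≠ K) : K' ≤ K ⊓ normalizer ((W ⊓ V : Subgroup G) : Set G) := by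
  refine le_inf hK fun n hn => CfsgLib.Solvable.mem_normalizer_of_conj_mem fun x hx => ?_
  have hnV := h.vK (hK hn)
  obtain ⟨m, hm, hag⟩ := h.proper K' hQ hK hne V n hn h.vQ
    (by rw [conjSub_eq_iff_mem_normalizer.2 hnV]; exact h.vQ)
  refine ⟨?_, (mem_normalizer_iff.1 hnV x).1 hx.2⟩
  show n * x * n⁻¹ ∈ W
  rw [← hag x hx.2]
  exact (mem_normalizer_iff.1 hm x).1 hx.1

theorem LocalHyp.cls_act (h : LocalHyp p W Z0 K Q V a) {x : G} (hx : x ∈ cls K Q a) :
    ¬ FixMod V Z0 x ∧ ∀ v ∈ V, ⁅⁅v, x⁆, x⁆ ∈ Z0 := by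
  obtain ⟨-, k, hk, rfl⟩ := hx
  refine ⟨fun hf => h.act ?_, fun v hv => ?_⟩
  · have := hf.conj (k := k⁻¹) (inv_mem (h.vK hk))
    simpa [mul_assoc] using this
  · have h1 : k⁻¹ * v * k ∈ V := (mem_normalizer_iff''.1 (h.vK hk) v).1 hv
    have h2 := (inferInstance : Z0.Normal).conj_mem _ (h.quad _ h1) k
    rw [← commutator_conj, ← commutator_conj] at h2
    simpa [mul_assoc] using h2

/-- A local subgroup with strongly embedded stabiliser. -/
theorem LocalHyp.exists_max (h : LocalHyp p W Z0 K Q V a) :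
    ∃ (R : Subgroup G) (a1 : G), R ≤ Q ∧ pCoreIn p K ≤ R ∧ a1 ∈ cls K Q a ∧ a1 ∈ normalizer (R : Set G) ∧
      ¬ K ⊓ normalizer (R : Set G) ≤ normalizer ((W ⊓ V : Subgroup G) : Set G) ∧
      ∀ P : Subgroup G, IsPGroup p P → P ≤ K → R ≤ P → a1 ∈ P →
        P ≤ normalizer ((W ⊓ V : Subgroup G) : Set G) ∧
          K ⊓ normalizer (P : Set G) ≤ normalizer ((W ⊓ V : Subgroup G) : Set G) := by
  classical
  set X := pCoreIn p K with hX
  set N := normalizer ((W ⊓ V : Subgroup G) : Set G) with hN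
  have hXQ : X ≤ Q := pCoreIn_le_sylow h.qp h.qK h.qi
  have hQN : Q ≤ N := fun q hq => CfsgLib.Solvable.mem_normalizer_of_conj_mem fun x hx =>
    ⟨(mem_normalizer_iff.1 (h.qW hq) x).1 hx.1, (mem_normalizer_iff.1 (h.vK (h.qK hq)) x).1 hx.2⟩
  set ℛ : Set (Subgroup G) := {R | X ≤ R ∧ R ≤ Q ∧ gen p K Q a R = R ∧ ¬ K ⊓ normalizer (R : Set G) ≤ N}
  have hXmem : X ∈ ℛ := by
    refine ⟨le_rfl, hXQ, le_antisymm (gen_le le_rfl) le_sup_left, fun hle => h.moved ?_⟩
    exact (le_inf le_rfl (le_normalizer_pCoreIn K)).trans hle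
  obtain ⟨R, ⟨hXR, hRQ, hRgen, hRN⟩, hmax⟩ := (Set.toFinite ℛ).exists_maximalFor
    (fun R : Subgroup G => Nat.card R) _ ⟨X, hXmem⟩
  have hmax' : ∀ R' : Subgroup G, X ≤ R' → R' ≤ Q → gen p K Q a R' = R' → Nat.card R < Nat.card R' →
      K ⊓ normalizer (R' : Set G) ≤ N := fun R' h1 h2 h3 h4 => by
    by_contra h5
    exact absurd (hmax ⟨h1, h2, h3, h5⟩ h4.le) (not_le.2 h4)
  -- a conjugate outside `R` normalising `R`
  obtain ⟨a1, ha1, ha1R, ha1N⟩ : ∃ a1 ∈ cls K Q a, a1 ∉ R ∧ a1 ∈ normalizer (R : Set G) := by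
    have hne : ¬ cls K Q a ⊆ R := by
      intro hsub
      have hgen : gen p K Q a Q = R := by
        refine le_antisymm (sup_le hXR ((closure_le _).2 fun x hx => hsub hx.1)) ?_
        rw [← hRgen]
        exact sup_le_sup_left (closure_mono fun x hx => Set.mem_inter hx.1 (hRQ hx.2)) _
      have hQR : Q ≤ K ⊓ normalizer (R : Set G) :=
        le_inf h.qK (hgen ▸ (le_inf h.qK le_normalizer).trans (gen_normalizer (p := p) (a := a) le_rfl))
      refine hRN ((h.over_stab hQR inf_le_left fun he => ?_).trans inf_le_right)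
      have hn : K ≤ normalizer (R : Set G) := inf_eq_left.1 he
      have hax : a ∈ X := le_pCoreIn (h.qp.to_le hRQ) (hRQ.trans h.qK) hn
        (hsub ⟨h.aQ, 1, one_mem _, by group⟩)
      exact h.act (h.fixX a hax)
    set T := gen p K Q a Q with hT
    have hTQ : T ≤ Q := gen_le hXQ
    have hRT : R ≤ T := by
      rw [← hRgen]
      exact sup_le_sup_left (closure_mono fun x hx => Set.mem_inter hx.1 (hRQ hx.2)) _
    by_contra hall
    push Not at hall
    have hall' : ∀ x ∈ cls K Q a, x ∈ normalizer (R : Set G) → x ∈ R := fun x hx hxn => by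
      by_contra hxR; exact hall x hx hxR hxn
    apply hne
    set R1 := T ⊓ normalizer (R : Set G) with hR1
    have hT1 : R1 = T := by
      by_contra hne1
      obtain ⟨y, hy, hyR1⟩ := SetLike.exists_of_lt
        (lt_norm (h.qp.to_le hTQ) (lt_of_le_of_ne (inf_le_left : R1 ≤ T) hne1))
      have heq : gen p K Q a R1 = R := by
        refine le_antisymm ?_ ?_
        · exact sup_le hXR ((closure_le _).2 fun x hx => hall' x hx.1 hx.2.2)
        · rw [← hRgen]
          exact sup_le_sup_left (closure_mono fun x hx =>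
            Set.mem_inter hx.1 (mem_inf.2 ⟨hRT hx.2, le_normalizer hx.2⟩)) _
      refine hyR1 ⟨hy.1, ?_⟩
      rw [← heq]
      exact gen_normalizer ((inf_le_left : R1 ≤ T).trans hTQ) ⟨h.qK (hTQ hy.1), hy.2⟩
    intro x hx
    exact hall' x hx (hT1 ▸ (mem_gen hx hx.1 : x ∈ T) : x ∈ R1).2
  refine ⟨R, a1, hRQ, hXR, ha1, ha1N, hRN, fun P hPp hPK hRP haP => ?_⟩
  -- subgroups of the stabiliser
  have key : ∀ P : Subgroup G, IsPGroup p P → P ≤ K → P ≤ N → R ≤ P → a1 ∈ P →
      K ⊓ normalizer (P : Set G) ≤ N := by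
    intro P hPp hPK hPN hRP haP y hy
    obtain ⟨n, hn, hnP⟩ := CfsgLib.Fusion.exists_conj_mem_of_le (N := K ⊓ N) hPp h.qp (le_inf hPK hPN)
      (le_inf h.qK hQN) fun hd => h.qi (hd.trans (relIndex_mul_relIndex Q (K ⊓ N) K (le_inf h.qK hQN)
        inf_le_left ▸ Dvd.intro _ rfl))
    set P' := conjSub n P with hP'
    have hP'Q : P' ≤ Q := by rintro _ ⟨x, hx, rfl⟩; exact hnP x hx
    have hXP' : X ≤ P' := by
      calc X = conjSub n X := (conjSub_eq_iff_mem_normalizer.2 (le_normalizer_pCoreIn (p := p) K hn.1)).symm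
        _ ≤ P' := CfsgLib.Fusion.conjSub_mono n (hXR.trans hRP)
    set R' := gen p K Q a P' with hR'
    have hR'P : R' ≤ P' := gen_le hXP'
    have hle : conjSub n (R ⊔ zpowers a1) ≤ R' := by
      rw [CfsgLib.Techniques.Functor.conjSub_sup]
      refine sup_le ?_ ?_
      · rw [← hRgen, gen, CfsgLib.Techniques.Functor.conjSub_sup,
          conjSub_eq_iff_mem_normalizer.2 (le_normalizer_pCoreIn (p := p) K hn.1)]
        refine sup_le le_sup_left ?_
        rw [conjSub, MonoidHom.map_closure, closure_le]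
        rintro _ ⟨x, hx, rfl⟩
        exact mem_gen (cls_conj hx.1 hn.1 (hnP x (hRP hx.2))) (conj_mem_conjSub (hRP hx.2))
      · rw [conjSub, MonoidHom.map_zpowers, zpowers_le]
        exact mem_gen (cls_conj ha1 hn.1 (hnP a1 haP)) (conj_mem_conjSub haP)
    have hcard : Nat.card R < Nat.card R' := by
      refine lt_of_lt_of_le (card_lt_of_lt (lt_of_le_not_ge le_sup_left fun hle' => ha1R ?_))
        ((card_conjSub n _).ge.trans (card_le_of_le hle))
      exact hle' (mem_sup_right (mem_zpowers a1))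
    have hR'N := hmax' R' le_sup_left (hR'P.trans hP'Q) (gen_gen hXP') hcard
    have hy' : n * y * n⁻¹ ∈ K ⊓ normalizer (P' : Set G) := by
      refine ⟨K.mul_mem (K.mul_mem hn.1 hy.1) (K.inv_mem hn.1), ?_⟩
      show n * y * n⁻¹ ∈ normalizer (P' : Set G)
      rw [hP', ← CfsgLib.Techniques.Functor.conjSub_normalizer]
      exact conj_mem_conjSub hy.2
    have := hR'N ⟨hy'.1, gen_normalizer hP'Q hy'⟩
    have h2 := N.mul_mem (N.mul_mem (N.inv_mem hn.2) this) hn.2
    simpa [mul_assoc] using h2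
  have hPN : P ≤ N := by
    by_contra hnot
    set P0 := P ⊓ N
    have hR0 : R ≤ P0 := le_inf hRP (hRQ.trans hQN)
    have ha0 : a1 ∈ P0 := ⟨haP, hQN ha1.1⟩
    obtain ⟨y, hy, hy0⟩ := SetLike.exists_of_lt
      (lt_norm hPp (lt_of_le_not_ge (inf_le_left : P0 ≤ P) fun hle => hnot (hle.trans inf_le_right)))
    exact hy0 ⟨hy.1, key P0 (hPp.to_le inf_le_left) ((inf_le_left : P0 ≤ P).trans hPK) inf_le_right hR0 ha0
      ⟨hPK hy.1, hy.2⟩⟩
  exact ⟨hPN, key P hPp hPK hPN hRP haP⟩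

set_option maxHeartbeats 1000000 in
/-- The failure structure. -/
theorem LocalHyp.struct (hp2 : p ≠ 2) (h : LocalHyp p W Z0 K Q V a) : Struct p W := by
  classical
  obtain ⟨R, a1, hRQ, hXR, ha1, ha1N, hRN, hstr⟩ := h.exists_max
  set N := normalizer ((W ⊓ V : Subgroup G) : Set G) with hN
  set K' := K ⊓ normalizer (R : Set G) with hK'
  have ha1K : a1 ∈ K' := ⟨h.qK ha1.1, ha1N⟩
  have hRp : IsPGroup p R := h.qp.to_le hRQ
  have hRK : R ≤ K' := le_inf (hRQ.trans h.qK) le_normalizer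
  have hap : IsPGroup p (zpowers a1) := h.qp.to_le (zpowers_le.2 ha1.1)
  have hsupP : ∀ P : Subgroup G, IsPGroup p P → P ≤ K' → IsPGroup p (R ⊔ P : Subgroup G) := fun P hP hPK =>
    hRp.to_sup_of_normal_left' hP (hPK.trans inf_le_right)
  -- the second element
  obtain ⟨k, hk, hbN⟩ : ∃ k ∈ K', k * a1 * k⁻¹ ∉ N := by
    by_contra hall
    push Not at hall
    set L := closure {x : G | ∃ k ∈ K', x = k * a1 * k⁻¹} with hL
    have hLN : L ≤ N := (closure_le _).2 fun x ⟨k, hk, e⟩ => e ▸ hall k hk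
    have hLK : L ≤ K' := (closure_le _).2 fun x ⟨k, hk, e⟩ => e ▸ mul_mem (mul_mem hk ha1K) (inv_mem hk)
    have hconj : ∀ g ∈ K', conjSub g L ≤ L := by
      intro g hg
      rw [conjSub, hL, MonoidHom.map_closure]
      refine closure_mono ?_
      rintro _ ⟨x, ⟨k, hk, rfl⟩, rfl⟩
      exact ⟨g * k, mul_mem hg hk, by simp [mul_assoc]⟩
    have haL : a1 ∈ L := subset_closure ⟨1, one_mem _, by group⟩
    obtain ⟨T, hT⟩ := (hap.of_equiv (subgroupOfEquivOfLe (zpowers_le.2 haL)).symm).exists_le_sylow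
    set PL := (T : Subgroup L).map L.subtype with hPL
    have hPLL : PL ≤ L := map_subtype_le _
    have haPL : a1 ∈ PL := ⟨⟨a1, haL⟩, hT (mem_subgroupOf.2 (mem_zpowers a1)), rfl⟩
    have hidx : ¬ p ∣ PL.relIndex L := by
      show ¬ p ∣ (PL.subgroupOf L).index
      rw [show PL.subgroupOf L = (T : Subgroup L) from comap_map_eq_self_of_injective L.subtype_injective _]
      exact T.not_dvd_index
    refine hRN fun x hx => ?_
    have hxL : conjSub x L = L := eq_of_le_of_card_ge (hconj x hx) (card_conjSub x L).ge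
    obtain ⟨l, hl, e⟩ := exists_conjSub_eq (H := L) (T := conjSub x PL) (R := PL) ((T.2.map _).map _)
      (by rw [← hxL]; exact CfsgLib.Fusion.conjSub_mono x hPLL)
      (by
        have h2 := CfsgLib.Fusion.not_dvd_relIndex_map (MulAut.conj x).toMonoidHom hPLL hidx
        rwa [show L.map (MulAut.conj x).toMonoidHom = L from hxL] at h2)
      (T.2.map _) hPLL hidx
    rw [CfsgLib.Fusion.conjSub_conjSub] at e
    have hlx : l * x ∈ K ⊓ normalizer ((R ⊔ PL : Subgroup G) : Set G) := by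
      have hlxK : l * x ∈ K' := mul_mem (hLK hl) hx
      refine ⟨hlxK.1, conjSub_eq_iff_mem_normalizer.1 ?_⟩
      rw [CfsgLib.Techniques.Functor.conjSub_sup, conjSub_eq_iff_mem_normalizer.2 hlxK.2, e]
    have := (hstr _ (hsupP PL (T.2.map _) (hPLL.trans hLK))
      (sup_le (hRK.trans inf_le_left) ((hPLL.trans hLK).trans inf_le_left)) le_sup_left
      (mem_sup_right haPL)).2 hlx
    have h2 := N.mul_mem (N.inv_mem (hLN hl)) this
    simpa using h2
  set b := k * a1 * k⁻¹ with hb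
  set E := closure ({a1, b} : Set G) with hE
  have hEK : E ≤ K' := (closure_le _).2 (by
    rintro x (rfl | rfl)
    · exact ha1K
    · exact mul_mem (mul_mem hk ha1K) (inv_mem hk))
  have haE : a1 ∈ E := subset_closure (Or.inl rfl)
  have hbE : b ∈ E := subset_closure (Or.inr rfl)
  -- the action on `V` modulo `Z0`
  set π := QuotientGroup.mk' Z0 with hπ
  set M := V.map π with hM
  have hcomm : ∀ x y : M, x * y = y * x := by
    rintro ⟨_, x, hx, rfl⟩ ⟨_, y, hy, rfl⟩
    apply Subtype.ext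
    show π x * π y = π y * π x
    rw [← commutatorElement_eq_one_iff_mul_comm, ← map_commutatorElement]
    exact (QuotientGroup.eq_one_iff _).2 (h.vc x hx y hy)
  letI : CommGroup M := { (inferInstance : Group M) with mul_comm := hcomm }
  have hexp : ∀ x : Additive M, p • x = 0 := by
    intro x
    apply Additive.toMul.injective
    rw [toMul_nsmul, toMul_zero]
    obtain ⟨v, hv, e⟩ := (Additive.toMul x).2
    exact Subtype.ext (by rw [SubmonoidClass.coe_pow, ← e, ← map_pow]; exact (QuotientGroup.eq_one_iff _).2 (h.vp v hv))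
  have : Module (ZMod p) (Additive M) := AddCommGroup.zmodModule hexp
  have hEV : ∀ g : E, (g : G) ∈ normalizer (V : Set G) := fun g => h.vK (hEK g.2).1
  have hact : ∀ (g : E) (x : M), π g * x * (π g)⁻¹ ∈ M := by
    rintro g ⟨_, v, hv, rfl⟩
    exact ⟨(g : G) * v * (g : G)⁻¹, (mem_normalizer_iff.1 (hEV g) v).1 hv, by simp⟩
  let lin : E → (Additive M →ₗ[ZMod p] Additive M) := fun g => AddMonoidHom.toZModLinearMap p
    { toFun := fun x => Additive.ofMul (⟨_, hact g (Additive.toMul x)⟩ : M)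
      map_zero' := by
        apply Additive.toMul.injective; apply Subtype.ext; simp
      map_add' := fun x y => by
        apply Additive.toMul.injective; apply Subtype.ext
        simp only [toMul_add, toMul_ofMul, coe_mul]
        group }
  have linapp : ∀ (g : E) (x : Additive M), ((Additive.toMul (lin g x) : M) : G ⧸ Z0) = π g * Additive.toMul x * (π g)⁻¹ :=
    fun g x => rfl
  let φ : E →* Module.End (ZMod p) (Additive M) :=
    { toFun := lin
      map_one' := LinearMap.ext fun x => by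
        apply Additive.toMul.injective; apply Subtype.ext
        rw [linapp, Module.End.one_apply, coe_one, map_one]; group
      map_mul' := fun g g' => LinearMap.ext fun x => by
        apply Additive.toMul.injective; apply Subtype.ext
        rw [linapp, Module.End.mul_apply, linapp, linapp, coe_mul, map_mul]; group }
  have φapp : ∀ (g : E) (v : G) (hv : v ∈ V),
      ((Additive.toMul (φ g (Additive.ofMul (⟨π v, v, hv, rfl⟩ : M))) : M) : G ⧸ Z0) = π (g * v * (g : G)⁻¹) :=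
    fun g v hv => by
      show π g * π v * (π g)⁻¹ = _
      simp
  have φval : ∀ (g : E) (x : Additive M),
      ((Additive.toMul (φ g x) : M) : G ⧸ Z0) = π g * Additive.toMul x * (π g)⁻¹ := linapp
  have hquad : ∀ g : E, (∀ v ∈ V, ⁅⁅v, (g : G)⁆, (g : G)⁆ ∈ Z0) → (φ g - 1) * (φ g - 1) = 0 := by
    intro g hg
    refine LinearMap.ext fun x => ?_
    obtain ⟨v, hv, e⟩ := (Additive.toMul x).2
    have h1 : π ⁅⁅v, (g : G)⁆, (g : G)⁆ = 1 := (QuotientGroup.eq_one_iff _).2 (hg v hv)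
    rw [map_commutatorElement, commutatorElement_eq_one_iff_mul_comm, map_commutatorElement, e,
      commutatorElement_def] at h1
    have key : x - φ g x = φ g x - φ g (φ g x) := by
      apply Additive.toMul.injective
      apply Subtype.ext
      simp only [toMul_sub, div_eq_mul_inv, coe_mul, coe_inv, φval]
      have h2 := mul_inv_eq_iff_eq_mul.2 h1.symm
      refine Eq.trans ?_ (h2.symm.trans ?_) <;> group
    simp only [Module.End.mul_apply, LinearMap.sub_apply, Module.End.one_apply, map_sub, LinearMap.zero_apply]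
    linear_combination (norm := abel) key
  -- the subspace `W ∩ V`
  let W0A : AddSubgroup (Additive M) :=
    Subgroup.toAddSubgroup (((W ⊓ V).map π).subgroupOf M)
  let W0 : Submodule (ZMod p) (Additive M) := AddSubgroup.toZModSubmodule p W0A
  have hW0 : ∀ x : Additive M, x ∈ W0 ↔ ((Additive.toMul x : M) : G ⧸ Z0) ∈ (W ⊓ V).map π := fun x => Iff.rfl
  have haq := (h.cls_act ha1).2
  have hbq : ∀ v ∈ V, ⁅⁅v, b⁆, b⁆ ∈ Z0 := by
    intro v hv
    have hkV := h.vK hk.1
    have h1 : k⁻¹ * v * k ∈ V := (mem_normalizer_iff''.1 hkV v).1 hv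
    have h2 := (inferInstance : Z0.Normal).conj_mem _ (haq _ h1) k
    rw [← commutator_conj, ← commutator_conj] at h2
    simpa [hb, mul_assoc] using h2
  obtain ⟨h', hh'⟩ : ∃ h' : E, ∀ j : ℕ, ∃ e : E, ∃ w ∈ W0, φ (h' ^ p ^ j) (φ e w) ≠ φ e w := by
    by_contra hall
    push Not at hall
    let C : Subgroup G :=
      { carrier := {g | g ∈ E ∧ ∀ e ∈ E, ∀ w ∈ W ⊓ V, π (g * (e * w * e⁻¹) * g⁻¹) = π (e * w * e⁻¹)}
        one_mem' := ⟨one_mem _, fun e _ w _ => by simp⟩
        mul_mem' := fun {g g'} hg hg' => ⟨mul_mem hg.1 hg'.1, fun e he w hw => by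
          rw [← hg.2 e he w hw]
          conv_rhs => rw [map_mul, map_mul, map_inv, ← hg'.2 e he w hw]
          simp only [map_mul, map_inv]; group⟩
        inv_mem' := fun {g} hg => ⟨inv_mem hg.1, fun e he w hw => by
          rw [inv_inv]
          conv_lhs => rw [map_mul, map_mul, map_inv, ← hg.2 e he w hw]
          simp only [map_mul, map_inv]; group⟩ }
    have hCE : C ≤ E := fun g hg => hg.1
    have hCn : E ≤ normalizer (C : Set G) := fun x hx =>
      CfsgLib.Solvable.mem_normalizer_of_conj_mem fun g hg =>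
        ⟨mul_mem (mul_mem hx hg.1) (inv_mem hx), fun e he w hw => by
          have := congrArg (fun y => π x * y * (π x)⁻¹) (hg.2 (x⁻¹ * e) (mul_mem (inv_mem hx) he) w hw)
          simp only [map_mul, map_inv, _root_.mul_inv_rev, inv_inv] at this ⊢
          calc π x * π g * (π x)⁻¹ * (π e * π w * (π e)⁻¹) * (π x * ((π g)⁻¹ * (π x)⁻¹))
              = π x * (π g * ((π x)⁻¹ * π e * π w * ((π e)⁻¹ * π x)) * (π g)⁻¹) * (π x)⁻¹ := by group
            _ = _ := by rw [this]; group⟩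
    obtain ⟨T, hT⟩ := (hap.of_equiv (subgroupOfEquivOfLe (zpowers_le.2 haE)).symm).exists_le_sylow
    set PE := (T : Subgroup E).map E.subtype with hPE
    have hidx : ¬ p ∣ PE.relIndex E := by
      show ¬ p ∣ (PE.subgroupOf E).index
      rw [show PE.subgroupOf E = (T : Subgroup E) from comap_map_eq_self_of_injective E.subtype_injective _]
      exact T.not_dvd_index
    have hle : E ≤ C ⊔ PE := le_sup_of_pow_mem hCE hCn (T.2.map _) (map_subtype_le _) hidx fun x hx => by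
      obtain ⟨j, hj⟩ := hall ⟨x, hx⟩
      refine ⟨j, pow_mem hx _, fun e he w hw => ?_⟩
      have := congrArg (fun z => ((Additive.toMul z : M) : G ⧸ Z0))
        (hj ⟨e, he⟩ (Additive.ofMul (⟨π w, w, hw.2, rfl⟩ : M)) ((hW0 _).2 ⟨w, hw, rfl⟩))
      show π (x ^ p ^ j * (e * w * e⁻¹) * (x ^ p ^ j)⁻¹) = _
      simp only [map_mul, map_inv, map_pow]
      exact this
    apply hbN
    refine (sup_le (fun g hg => ?_) ?_ : C ⊔ PE ≤ N) (hle hbE)
    · refine CfsgLib.Solvable.mem_normalizer_of_conj_mem fun w hw => ?_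
      have h1 : π (g * w * g⁻¹) = π w := by simpa using hg.2 1 (one_mem _) w hw
      have h2 : g * w * g⁻¹ * w⁻¹ ∈ Z0 := by
        rw [← QuotientGroup.eq_one_iff]
        show π (g * w * g⁻¹ * w⁻¹) = 1
        rw [map_mul, map_inv, h1, mul_inv_cancel]
      have h3 := (W ⊓ V).mul_mem (⟨h.zW h2, h.zV h2⟩ : _ ∈ W ⊓ V) hw
      simpa using h3
    · have hPEK : PE ≤ K' := (map_subtype_le _).trans hEK
      exact le_sup_right.trans ((hstr (R ⊔ PE) (hsupP PE (T.2.map _) hPEK)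
        (sup_le (hRK.trans inf_le_left) (hPEK.trans inf_le_left)) le_sup_left
        (mem_sup_right ⟨⟨a1, haE⟩, hT (mem_subgroupOf.2 (mem_zpowers a1)), rfl⟩)).1)
  have hgenE : closure ({⟨a1, haE⟩, ⟨b, hbE⟩} : Set E) = ⊤ := by
    apply map_injective E.subtype_injective
    rw [MonoidHom.map_closure, ← MonoidHom.range_eq_map, range_subtype]
    simp [Set.image_insert_eq, hE]
  have hapE : IsPGroup p (zpowers (⟨a1, haE⟩ : E)) := by
    intro ⟨x, hx⟩
    obtain ⟨i, rfl⟩ := hx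
    obtain ⟨j, hj⟩ := hap ⟨a1 ^ i, zpow_mem (mem_zpowers a1) i⟩
    exact ⟨j, Subtype.ext (Subtype.ext (by simpa using congrArg Subtype.val hj))⟩
  obtain ⟨P, t, μ, Y, ψ, hPp, haP, htP, hμ, hψ, hψa, hψt, heig⟩ :=
    exists_plane_eigen (a := ⟨a1, haE⟩) (b := ⟨b, hbE⟩) hp2 φ hgenE hapE (hquad _ haq) (hquad _ hbq) W0 hh'
  set PG := P.map E.subtype with hPG
  have hPGK : PG ≤ K' := (map_subtype_le _).trans hEK
  set P1 := R ⊔ PG with hP1
  have ht1 : (t : G) ∈ K ⊓ normalizer (P1 : Set G) := by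
    refine ⟨(hEK t.2).1, conjSub_eq_iff_mem_normalizer.1 ?_⟩
    rw [hP1, CfsgLib.Techniques.Functor.conjSub_sup, conjSub_eq_iff_mem_normalizer.2 (hEK t.2).2,
      conjSub_eq_iff_mem_normalizer.2
        (show (t : G) ∈ normalizer (PG : Set G) from le_normalizer_map E.subtype ⟨t, htP, rfl⟩)]
  have hP1K : P1 ≤ K := sup_le (hRQ.trans h.qK) (hPGK.trans inf_le_left)
  have hP1p : IsPGroup p P1 := hsupP PG (hPp.map _) hPGK
  obtain ⟨hP1N, hNP1⟩ := hstr P1 hP1p hP1K le_sup_left (mem_sup_right ⟨_, haP, rfl⟩)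
  have htN : (t : G) ∈ N := hNP1 ht1
  -- move into `Q`
  have hQN : Q ≤ N := fun q hq => CfsgLib.Solvable.mem_normalizer_of_conj_mem fun x hx =>
    ⟨(mem_normalizer_iff.1 (h.qW hq) x).1 hx.1, (mem_normalizer_iff.1 (h.vK (h.qK hq)) x).1 hx.2⟩
  obtain ⟨n, hn, hnQ⟩ := CfsgLib.Fusion.exists_conj_mem_of_le (N := K ⊓ N) hP1p h.qp (le_inf hP1K hP1N)
    (le_inf h.qK hQN) fun hd => h.qi (hd.trans (relIndex_mul_relIndex Q (K ⊓ N) K (le_inf h.qK hQN)
      inf_le_left ▸ Dvd.intro _ rfl))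
  set P2 := conjSub n P1 with hP2
  set t2 := n * (t : G) * n⁻¹ with ht2
  have hP2Q : P2 ≤ Q := by rintro _ ⟨x, hx, rfl⟩; exact hnQ x hx
  have ht2K : t2 ∈ K ⊓ N := mul_mem (mul_mem hn ⟨ht1.1, htN⟩) (inv_mem hn)
  have ht2P : t2 ∈ normalizer (P2 : Set G) := by
    rw [hP2, ← CfsgLib.Techniques.Functor.conjSub_normalizer]; exact conj_mem_conjSub ht1.2
  have hVP2 : V ≤ P2 := by
    rw [hP2, ← conjSub_eq_iff_mem_normalizer.2 (h.vK hn.1)]
    exact CfsgLib.Fusion.conjSub_mono n ((h.vX.trans hXR).trans le_sup_left)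
  obtain ⟨m, hm, hag⟩ := h.proper (K ⊓ N) (le_inf h.qK hQN) inf_le_left
    (fun he => h.moved (inf_eq_left.1 he)) P2 t2 ht2K hP2Q
    (by rw [conjSub_eq_iff_mem_normalizer.2 ht2P]; exact hP2Q)
  have hmP2 : m ∈ normalizer (P2 : Set G) := by
    rw [← conjSub_eq_iff_mem_normalizer, hag.conjSub_eq, conjSub_eq_iff_mem_normalizer.2 ht2P]
  refine ⟨?_, ?_⟩
  · -- the section
    have hnV := h.vK hn.1
    have hcl : ∀ v : G, v ∈ V → n⁻¹ * v * n ∈ V := fun v hv => (mem_normalizer_iff''.1 hnV v).1 hv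
    let tr : V →* Multiplicative (Additive M) :=
      MonoidHom.mk' (fun v => Multiplicative.ofAdd (Additive.ofMul (⟨π (n⁻¹ * v * n), _, hcl v v.2, rfl⟩ : M)))
        fun v v' => by
          rw [← ofAdd_add, ← ofMul_mul]
          congr 2
          apply Subtype.ext
          show π (n⁻¹ * ((v : G) * v') * n) = π (n⁻¹ * v * n) * π (n⁻¹ * v' * n)
          rw [← map_mul]; congr 1; group
    let Yt : Subgroup V := (AddSubgroup.toSubgroup Y.toAddSubgroup).comap tr
    let Y2 : Subgroup G := Yt.map V.subtype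
    have hY2 : ∀ y : Y2, ∃ hv : (y : G) ∈ V, (Multiplicative.toAdd (tr ⟨y, hv⟩)) ∈ Y := by
      rintro ⟨_, v, hv, rfl⟩; exact ⟨v.2, hv⟩
    choose hyV hyY using hY2
    let π2 : Y2 →* Multiplicative (Fin 2 → ZMod p) :=
      MonoidHom.mk' (fun y => Multiplicative.ofAdd (ψ ⟨_, hyY y⟩)) fun y y' => by
        rw [← ofAdd_add, ← map_add]
        congr 2
        apply Subtype.ext
        show Multiplicative.toAdd (tr ⟨(y : G) * y', _⟩) = Multiplicative.toAdd (tr ⟨y, _⟩) + Multiplicative.toAdd (tr ⟨y', _⟩)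
        rw [← toAdd_mul, ← map_mul]; rfl
    have hπ2 : Function.Surjective π2 := by
      intro z
      obtain ⟨⟨y, hy⟩, e⟩ := hψ (Multiplicative.toAdd z)
      obtain ⟨v, hv, ev⟩ := (Additive.toMul y).2
      have hv' : n * v * n⁻¹ ∈ V := (mem_normalizer_iff.1 hnV v).1 hv
      have etr : Multiplicative.toAdd (tr ⟨_, hv'⟩) = y := by
        apply Additive.toMul.injective
        apply Subtype.ext
        show π (n⁻¹ * (n * v * n⁻¹) * n) = _
        rw [← ev]; congr 1; group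
      refine ⟨⟨_, ⟨_, hv'⟩, show Multiplicative.toAdd (tr ⟨_, hv'⟩) ∈ Y from etr ▸ hy, rfl⟩, ?_⟩
      show Multiplicative.ofAdd (ψ _) = z
      rw [← ofAdd_toAdd z, ← e]
      congr 2
      exact Subtype.ext etr
    have hconjact : ∀ (g : G) (ge : E) (A : Matrix (Fin 2) (Fin 2) (ZMod p)),
        (∀ v ∈ V, g * v * g⁻¹ = (n * ge * n⁻¹) * v * (n * ge * n⁻¹)⁻¹) →
        (∀ y : Y, ∃ hy : φ ge y.1 ∈ Y, ψ ⟨_, hy⟩ = A.mulVec (ψ y)) →
        ∀ y : Y2, ∃ hh : g * y * g⁻¹ ∈ Y2, Multiplicative.toAdd (π2 ⟨_, hh⟩) = A.mulVec (Multiplicative.toAdd (π2 y)) := by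
      intro g ge A hg hA y
      have hv := hyV y
      have hgV : g * y * g⁻¹ ∈ V := by
        rw [hg y hv]
        exact (mem_normalizer_iff.1 (mul_mem (mul_mem hnV (hEV ge)) (inv_mem hnV)) _).1 hv
      have etr : Multiplicative.toAdd (tr ⟨_, hgV⟩) = φ ge (Multiplicative.toAdd (tr ⟨y, hv⟩)) := by
        apply Additive.toMul.injective
        apply Subtype.ext
        show π (n⁻¹ * (g * y * g⁻¹) * n) = π ge * π (n⁻¹ * y * n) * (π ge)⁻¹
        rw [hg y hv, ← map_inv, ← map_mul, ← map_mul]; congr 1; group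
      obtain ⟨hy', e⟩ := hA ⟨_, hyY y⟩
      refine ⟨⟨⟨_, hgV⟩, show Multiplicative.toAdd (tr ⟨_, hgV⟩) ∈ Y from etr ▸ hy', rfl⟩, ?_⟩
      show ψ _ = A.mulVec (ψ _)
      rw [← e]
      congr 1
      exact Subtype.ext etr
    refine involves_fOver_of_data (Y := Y2) (π := π2) hp2 (H := normalizer (W : Set G)) (P := P2)
      (hP2Q.trans h.qW) (h.qp.to_le hP2Q)
      (by rintro _ ⟨v, -, rfl⟩; exact hVP2 v.2) (a := n * a1 * n⁻¹)
      (conj_mem_conjSub (mem_sup_right ⟨_, haP, rfl⟩)) hm hmP2 hμ hπ2 (hconjact _ ⟨a1, haE⟩ _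
        (fun v _ => rfl) hψa) (hconjact m t _ (fun v hv => hag v (hVP2 hv)) hψt)
  · -- the eigenvector
    obtain ⟨ν, hν, w, hw, hw0, hφw⟩ := heig W0 le_rfl fun w hw => by
      obtain ⟨x, hx, e⟩ := (hW0 w).1 hw
      refine (hW0 _).2 ⟨(t : G) * x * (t : G)⁻¹, (mem_normalizer_iff.1 htN x).1 hx, ?_⟩
      rw [show φ t w = lin t w from rfl, linapp, ← e]; simp
    obtain ⟨x, hx, e⟩ := (hW0 w).1 hw
    set u := n * x * n⁻¹ with hu
    have hu' : u ∈ W ⊓ V := (mem_normalizer_iff.1 hn.2 x).1 hx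
    have hxZ : x ∉ Z0 := fun hxZ => hw0 (by
      apply Additive.toMul.injective; apply Subtype.ext
      rw [← e, toMul_zero, coe_one]
      exact (QuotientGroup.eq_one_iff _).2 hxZ)
    have huZ : u ∉ Z0 := fun hu0 => hxZ (by
      have := (inferInstance : Z0.Normal).conj_mem _ hu0 n⁻¹
      simpa [hu, mul_assoc] using this)
    have hpow : π ((t : G) * x * (t : G)⁻¹) = π (x ^ ν.val) := by
      have h1 := congrArg (fun z => ((Additive.toMul z : M) : G ⧸ Z0)) hφw
      rw [show φ t w = lin t w from rfl, linapp, ← e] at h1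
      rw [map_pow]
      have h2 : ν • w = ν.val • w := by
        conv_lhs => rw [← ZMod.natCast_rightInverse ν]
        rw [Nat.cast_smul_eq_nsmul]
      rw [h2, toMul_nsmul, SubmonoidClass.coe_pow, ← e] at h1
      simpa using h1
    have hj : t2 * u * t2⁻¹ * (u ^ ν.val)⁻¹ ∈ Z0 := by
      have h1 : (t : G) * x * (t : G)⁻¹ * (x ^ ν.val)⁻¹ ∈ Z0 := by
        rw [← QuotientGroup.eq_one_iff]
        show π _ = 1
        rw [map_mul, map_inv, hpow, mul_inv_cancel]
      have := (inferInstance : Z0.Normal).conj_mem _ h1 n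
      convert this using 1
      rw [ht2, hu, conj_pow]; group
    obtain ⟨c, hc, hco, hct⟩ := exists_eigen (U := W ⊓ V) (Z0 := Z0)
      (h.qp.to_le (inf_le_right.trans h.vQ))
      (fun x hx y hy => h.wc x hx.1 y hy.1) (le_inf h.zW h.zV) ht2K.2
      (by rw [normalizer_eq_top Z0]; trivial) hu' huZ hj
    exact ⟨c, hc.1, hco, ν.val, by rwa [ZMod.natCast_rightInverse], m, hm,
      (hag c (hVP2 hc.2)).trans hct⟩

end CfsgLib.LocalEven.ZJFusion
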